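import Cfsg.Agent.TAB.F22.FxC_m3
import Cfsg.Agent.H204.Ore.LyFive_m3
import Cfsg.Agent.H582.Ly.Three_m3
import Cfsg.Agent.H314.IMLy
import Cfsg.Agent.H41.McLTwo.Ords_m3
import Cfsg.Agent.H511.Cyc.LyOrd
import Cfsg.Agent.H511.Ore.RowLy_m3
import Cfsg.Agent.H358.TwoTransMod4
import Cfsg.Agent.H904.El.Cent
import Cfsg.Agent.H20.FrobTits_m3
import Cfsg.Agent.H990.TC.OrthCent
import Cfsg.Agent.S0000
import Cfsg.Agent.H438.Fpr.LyC
import Cfsg.Agent.H455.ZerosLy
import Cfsg.Agent.H569.PV.LyThree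
import Cfsg.Agent.OrdDiv.Table
import Cfsg.Agent.Lib.FastPerm
import Cfsg.Agent.H51.Rad3.Ly
import Cfsg.Agent.H582.Ly.Row
import Cfsg.Agent.S0213
import Cfsg.Agent.FastGrp
import Cfsg.Agent.Prune
set_option linter.all false

section
prune_inst 0x7f00000000000000000000000000000000000000000000000000000000000000000000000000000000000000000000000000000000000000000000000000000000000000000000000000000000000000003fffffffffffffffffffffffffffbeffbdffffffff

-- part: TAB/Ly/Five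
section
set_option linter.all false
open scoped Cfsg.Agent.FastGrp

/-!
# The Lyons group : the boxes `5A 5B 15A 15C 25A` (helper11, TAB)
-/

set_option autoImplicit false

namespace Cfsg.Agent.TAB.Ly

open Cfsg Subgroup Cfsg.Agent.H582.Ly Cfsg.Agent.SporRec.LyType Cfsg.Agent.SporRec.LyFiveCore
open Cfsg.Agent.CpAutLy.Types (nn)
open Cfsg.Agent.TypeM.Two

namespace Fv5

section

variable {H : Type} [Group H] [Finite H]

omit [Finite H] in
theorem card_sub (O : Subgroup H) {x : H} (hx : x ∈ O) :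
    Nat.card (centralizer ({⟨x, hx⟩} : Set O)) = Nat.card (O ⊓ centralizer ({x} : Set H) : Subgroup H) :=
  Nat.card_congr
    { toFun := fun c => ⟨c.1.1, c.1.2, mem_centralizer_singleton_iff.2
        (congrArg Subtype.val (mem_centralizer_singleton_iff.1 c.2))⟩
      invFun := fun c => ⟨⟨c.1, c.2.1⟩, mem_centralizer_singleton_iff.2
        (Subtype.ext (mem_centralizer_singleton_iff.1 c.2.2))⟩
      left_inv := fun _ => rfl
      right_inv := fun _ => rfl }

theorem ne_odd {x : H} (hx : orderOf x = 3) (hc : Nat.card (centralizer ({x} : Set H)) = 75) :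
    Nat.card H ≠ 9375 := by
  intro h
  have : Fact (Nat.Prime 3) := ⟨Nat.prime_three⟩
  let P : Sylow 3 H := Sylow.ofCard (zpowers x) (by
    rw [Nat.card_zpowers, hx, h, show 9375 = 3 ^ 1 * 3125 by norm_num,
      Nat.factorization_mul (by norm_num) (by norm_num), Nat.prime_three.factorization_pow, Finsupp.add_apply,
      Finsupp.single_eq_same, Nat.factorization_eq_zero_of_not_dvd (by norm_num)]
    norm_num)
  have h1 := card_sylow_modEq_one 3 H
  rw [P.card_eq_index_normalizer] at h1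
  have h2 : Nat.card (normalizer (zpowers x : Set H)) ∣ 75 * (3 - 1) :=
    hc ▸ H20.FrobTools.card_normalizer_dvd Nat.prime_three hx
  have h3 : 75 ∣ Nat.card (normalizer (zpowers x : Set H)) := by
    rw [← hc]
    refine card_dvd_of_le (le_trans ?_ (centralizer_le_normalizer _))
    intro g hg
    rw [mem_centralizer_iff]
    rintro _ ⟨k, rfl⟩
    exact (Commute.zpow_left (mem_centralizer_singleton_iff.1 hg).symm k :)
  have h4 := (normalizer (zpowers x : Set H)).card_mul_index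
  rw [h] at h4
  change (normalizer (zpowers x : Set H)).index ≡ 1 [MOD 3] at h1
  obtain ⟨k, hk⟩ := h3
  rw [hk] at h2 h4
  have h5 : k ≤ 2 := Nat.le_of_dvd (by norm_num) (Nat.dvd_of_mul_dvd_mul_left (by norm_num) h2)
  unfold Nat.ModEq at h1
  generalize (normalizer (zpowers x : Set H)).index = n at h1 h4
  interval_cases k <;> omega

theorem le_of_dvd {x : H} (hx : orderOf x = 3) (hc : Nat.card (centralizer ({x} : Set H)) = 75)
    (h : Nat.card H ∣ 18750) : Nat.card H ≤ 3750 := by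
  have h1 := ne_odd hx hc
  have h2 : Nat.card H ≠ 18750 := fun h2 => by
    obtain ⟨O, -, h3, h4⟩ := H358.TwoTransMod4.exists_odd (X := H) (by rw [h2]; norm_num) (by rw [h2]; norm_num)
    have h5 : x ∈ O := (h4 x).2 (by rw [hx]; decide)
    refine ne_odd (H := O) (x := ⟨x, h5⟩) (by rw [Subgroup.orderOf_mk, hx]) ?_ ?_
    · rw [card_sub, inf_eq_right.2, hc]
      intro g hg
      have h6 := orderOf_dvd_natCard (⟨g, hg⟩ : centralizer ({x} : Set H))
      rw [hc, Subgroup.orderOf_mk] at h6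
      exact (h4 g).2 (Odd.of_dvd_nat (by decide) h6)
    · have h6 := O.card_mul_index
      rw [h3, h2] at h6
      omega
  obtain ⟨k, hk⟩ : 75 ∣ Nat.card H := hc ▸ card_subgroup_dvd_card _
  rw [hk] at h h1 h2 ⊢
  have h3 : k ∣ 250 := Nat.dvd_of_mul_dvd_mul_left (by norm_num) h
  have h4 : k ∈ Nat.divisors 250 := Nat.mem_divisors.2 ⟨h3, by norm_num⟩
  have h5 : ∀ k ∈ Nat.divisors 250, k ≤ 50 ∨ k = 125 ∨ k = 250 := by decide +kernel
  rcases h5 k h4 with h6 | rfl | rfl <;> omega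

/-- the lift of an element of order five of `McL` -/
theorem lift {x₀ : H} (h₀ : TData x₀) {q : ↥McLType.Gens.K0} (hq : orderOf q = 5) :
    ∃ y : H, orderOf y = 5 ∧ y * x₀ = x₀ * y ∧ nn x₀ y = 3 * Nat.card (centralizer ({q} : Set ↥McLType.Gens.K0)) := by
  obtain ⟨e1⟩ := h₀.mcl.quot
  obtain ⟨e2⟩ := H359.CT.McL.iso_K0
  let e := e2.trans e1.symm
  obtain ⟨u, hu⟩ := QuotientGroup.mk'_surjective _ (e q)
  have hz : ∀ z ∈ center (centralizer ({x₀} : Set H)), z ^ 3 = 1 := fun z hz => by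
    have h4 := pow_card_eq_one' (G := center (centralizer ({x₀} : Set H))) (x := ⟨z, hz⟩)
    rw [h₀.mcl.zcard] at h4
    exact congrArg Subtype.val h4
  have h1 : e q ^ 5 = 1 := by rw [← map_pow, ← hq, pow_orderOf_eq_one, map_one]
  have h2 : (u ^ 6) ^ 5 = 1 := by
    have h3 : u ^ 5 ∈ center (centralizer ({x₀} : Set H)) := by
      rw [← QuotientGroup.eq_one_iff, QuotientGroup.mk_pow]
      rw [← hu] at h1
      exact h1
    rw [← pow_mul, show 6 * 5 = 5 * 3 * 2 from rfl, pow_mul, pow_mul, hz _ h3, one_pow]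
  have h3 : QuotientGroup.mk' _ (u ^ 6) = e q := by rw [map_pow, hu, pow_succ, h1, one_mul]
  have h4 := H990.TC.OrthCent.card_cent_quot (Z := center (centralizer ({x₀} : Set H))) le_rfl h2 fun z h5 h6 => by
    have h7 : z = (z ^ 3) ^ 2 * (z ^ 5)⁻¹ := by group
    rw [h7, hz z h5, h6, one_pow, inv_one, one_mul]
  rw [h3, h₀.mcl.zcard, ← Nat.card_congr (centCongr e q).toEquiv] at h4
  have : Fact (Nat.Prime 5) := ⟨Nat.prime_five⟩
  refine ⟨(u ^ 6 : centralizer ({x₀} : Set H)), ?_, mem_centralizer_singleton_iff.1 (u ^ 6).2, ?_⟩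
  · rw [Subgroup.orderOf_coe]
    refine orderOf_eq_prime h2 fun h5 => ?_
    rw [h5, map_one, eq_comm, map_eq_one_iff _ e.injective] at h3
    rw [h3, orderOf_one] at hq
    omega
  · rw [mul_comm, h4]
    exact (card_sub _ (u ^ 6).2).symm

variable {L : LyType H} {f : H}

/-- an element of order three and `f` commute with an involution -/
theorem two_dvd (hf : Five L f) {g : H} (hg : orderOf g = 3) (hgf : g * f = f * g) : 2 ∣ nn g f := by
  set C := centralizer ({f} : Set H) with hC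
  have hCc : Nat.card C = 2250000 := (fv_of_five hf).card_cent
  set B : Subgroup C := (C ⊓ centralizer ({L.t} : Set H)).subgroupOf C with hB
  have hBc : Nat.card B = 3600 := by
    rw [← H204.Ore.LyFive.nn_five hf]
    exact Nat.card_congr (Subgroup.subgroupOfEquivOfLe inf_le_left).toEquiv
  have hidx : ¬ 3 ∣ B.index :=
    not_dvd_index (k := 2) (a := 250000) (b := 400) (by rw [hCc]; norm_num) (by rw [hBc]; norm_num) Nat.prime_three
      (by norm_num)
  obtain ⟨c, hc⟩ := exists_conj_le Nat.prime_three (A := zpowers (⟨g, mem_centralizer_singleton_iff.2 hgf⟩ : C))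
    (IsPGroup.of_card (n := 1) (by rw [Nat.card_zpowers, Subgroup.orderOf_mk, hg, pow_one])) hidx
  have h3 := (mem_subgroupOf.1 (hc _ (mem_zpowers _))).2
  have h4 : (c : H) * g * (c : H)⁻¹ * L.t = L.t * ((c : H) * g * (c : H)⁻¹) := mem_centralizer_singleton_iff.1 h3
  have h5 : (c : H)⁻¹ * L.t * c ∈ centralizer ({g} : Set H) ⊓ C := by
    refine ⟨mem_centralizer_singleton_iff.2 ?_, C.mul_mem (C.mul_mem (C.inv_mem c.2) (fv_of_five hf).t_mem_cent) c.2⟩
    calc (c : H)⁻¹ * L.t * c * g = (c : H)⁻¹ * (L.t * (c * g * (c : H)⁻¹)) * c := by group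
      _ = g * ((c : H)⁻¹ * L.t * c) := by rw [← h4]; group
  have h6 := orderOf_dvd_natCard (⟨_, h5⟩ : (centralizer ({g} : Set H) ⊓ C : Subgroup H))
  have h7 := Eng.orderOf_conj' L.t (c : H)⁻¹
  rw [inv_inv, (fv_of_five hf).orderOf_t] at h7
  rwa [Subgroup.orderOf_mk, h7] at h6

/-- four divides the order of the centralizer only for the large class -/
theorem cc_of_four (M : MT 11 H) {x : H} (hx : orderOf x = 5) (h4 : 4 ∣ cc x) : cc x = 2250000 := by
  have : Fact (Nat.Prime 2) := ⟨Nat.prime_two⟩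
  obtain ⟨P, hP⟩ := Sylow.exists_subgroup_card_pow_prime (G := centralizer ({x} : Set H)) 2 (n := 2) h4
  obtain ⟨s, hs⟩ := exists_prime_orderOf_dvd_card' (G := P) 2 (by rw [hP]; norm_num)
  have hs2 : orderOf ((s : centralizer ({x} : Set H)) : H) = 2 := by
    rw [Subgroup.orderOf_coe, Subgroup.orderOf_coe, hs]
  obtain ⟨hss, hs1⟩ := MT.sq_of_orderOf hs2
  obtain ⟨L', hL'⟩ := M.exists_rebase hss hs1
  have htx : L'.t * x = x * L'.t := by
    rw [hL']
    exact mem_centralizer_singleton_iff.1 (s : centralizer ({x} : Set H)).2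
  have hx5 : x ^ 5 = 1 := by rw [← hx, pow_orderOf_eq_one]
  have hx1 : x ≠ 1 := by
    rintro rfl
    rw [orderOf_one] at hx
    omega
  rcases CpAut.CycFive.five_cases L'.K (y := ⟨x, mem_centralizer_singleton_iff.2 htx.symm⟩) (Subtype.ext hx5)
    (fun e => hx1 (congrArg Subtype.val e)) with hty | hty
  · obtain ⟨K, S, h⟩ := fv_of_type L' hx5 htx.symm hty
    exact h.card_cent
  · exfalso
    have hab := IsPGroup.isMulCommutative_of_card_eq_prime_sq (p := 2) hP
    have h5 : ∀ g : P, g = 1 ∨ g = s := fun g => by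
      have h6 : ((g : centralizer ({x} : Set H)) : H) * L'.t = L'.t * (g : centralizer ({x} : Set H)) := by
        rw [hL']
        exact congrArg (fun y : P => ((y : centralizer ({x} : Set H)) : H)) (hab.is_comm.comm g s)
      have h7 : g ^ 2 ^ 2 = 1 := by rw [← hP, pow_card_eq_one']
      rcases CpAut.CycFive.two_elements L'.K hty (g := ⟨_, L'.mem_iff.2 h6⟩)
        (Subtype.ext (mem_centralizer_singleton_iff.1 (g : centralizer ({x} : Set H)).2)) (k := 2)
        (Subtype.ext (congrArg (fun y : P => ((y : centralizer ({x} : Set H)) : H)) h7)) with h | h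
      · have h0 : ((g : centralizer ({x} : Set H)) : H) = 1 := congrArg Subtype.val h
        exact Or.inl (Subtype.ext (Subtype.ext h0))
      · have h0 : ((g : centralizer ({x} : Set H)) : H) = (s : centralizer ({x} : Set H)) :=
          ((congrArg Subtype.val h).trans L'.hz).trans hL'
        exact Or.inr (Subtype.ext (Subtype.ext h0))
    have h6 : Nat.card P ≤ Nat.card Bool :=
      Nat.card_le_card_of_surjective (fun b : Bool => cond b 1 s) fun g =>
        (h5 g).elim (fun h => ⟨true, h.symm⟩) fun h => ⟨false, h.symm⟩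
    rw [hP, Nat.card_eq_fintype_card, Fintype.card_bool] at h6
    omega

theorem prod {x y : H} (hx : orderOf x = 3) (hy : orderOf y = 5) (h : y * x = x * y) :
    orderOf (x * y) = 15 ∧ cc (x * y) ≤ nn x y ∧ (Big ((x * y) ^ 3) ↔ Big y) ∧ (Big ((x * y) ^ 5) ↔ Big x) := by
  have hc : Commute x y := h.symm
  have h3 : x ^ 3 = 1 := by rw [← hx, pow_orderOf_eq_one]
  have h5 : y ^ 5 = 1 := by rw [← hy, pow_orderOf_eq_one]
  refine ⟨?_, card_le_of_le (le_inf ?_ ?_), ?_, ?_⟩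
  · rw [hc.orderOf_mul_eq_mul_orderOf_of_coprime (by rw [hx, hy]; decide), hx, hy]
  · have h1 := cent_pow_le (x * y) 10
    rwa [hc.mul_pow, show 10 = 5 * 2 from rfl, pow_mul y, h5, one_pow, mul_one, show 5 * 2 = 3 * 3 + 1 from rfl,
      pow_succ, pow_mul, h3, one_pow, one_mul] at h1
  · have h1 := cent_pow_le (x * y) 6
    rwa [hc.mul_pow, show 6 = 3 * 2 from rfl, pow_mul x, h3, one_pow, one_mul, show 3 * 2 = 5 + 1 from rfl,
      pow_succ, h5, one_mul] at h1
  · rw [hc.mul_pow, h3, one_mul]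
    exact big_pow (by rw [hy]; decide)
  · rw [hc.mul_pow, h5, mul_one]
    exact big_pow (by rw [hx]; decide)

omit [Finite H] in
theorem big_x {x₀ : H} (h₀ : TData x₀) : Big x₀ := (big_three h₀.ord).2 (by rw [cc, h₀.mcl.card]; norm_num)

end

open H359.CT.McL McLType.Gens in
theorem mcl (i : Fin 18) (hi : i = 5 ∨ i = 6) :
    ∃ q : ↥K0, orderOf q = 5 ∧ Nat.card (centralizer ({q} : Set ↥K0)) = cs i := by
  rcases hi with rfl | rfl
  · refine ⟨gs 5, order_gs (by norm_num) (by decide +kernel) (by decide +kernel), ?_⟩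
    have h := classes.2 5
    rw [xs_cent] at h
    exact h
  · refine ⟨gs 6, order_gs (by norm_num) (by decide +kernel) (by decide +kernel), ?_⟩
    have h := classes.2 6
    rw [xs_cent] at h
    exact h

theorem exA : ∃ x y : Spor.Ly, TData x ∧ orderOf y = 5 ∧ y * x = x * y ∧ nn x y = 2250 ∧ cc y = 2250000 := by
  have := fin
  obtain ⟨M⟩ := TypeM.FactsLy.exists_mt_ly
  obtain ⟨f, hf⟩ := SporRec.LyFiveFinal.exists_five (toLy M)
  obtain ⟨x, hx⟩ := exists_tdata_ly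
  obtain ⟨q, h1, h2⟩ := mcl 5 (Or.inl rfl)
  obtain ⟨y, h3, h4, h5⟩ := lift hx h1
  rw [h2] at h5
  change _ = 2250 at h5
  refine ⟨x, y, hx, h3, h4, h5, ?_⟩
  have : Fact (Nat.Prime 2) := ⟨Nat.prime_two⟩
  obtain ⟨s, hs⟩ := exists_prime_orderOf_dvd_card'
    (G := (centralizer ({x} : Set Spor.Ly) ⊓ centralizer ({y} : Set Spor.Ly) : Subgroup Spor.Ly)) 2
    (by change 2 ∣ nn x y; rw [h5]; norm_num)
  have h6 : x ∈ centralizer ({y} : Set Spor.Ly) ⊓ centralizer ({s.1} : Set Spor.Ly) :=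
    ⟨mem_centralizer_singleton_iff.2 h4.symm,
      mem_centralizer_singleton_iff.2 (mem_centralizer_singleton_iff.1 s.2.1).symm⟩
  have h7 := orderOf_dvd_natCard
    (⟨x, h6⟩ : (centralizer ({y} : Set Spor.Ly) ⊓ centralizer ({s.1} : Set Spor.Ly) : Subgroup Spor.Ly))
  rw [Subgroup.orderOf_mk, hx.ord] at h7
  change 3 ∣ nn y s.1 at h7
  rcases H799.PB.nn_table (toLy M) hf Nat.prime_five (by norm_num) h3 ((Subgroup.orderOf_coe s).trans hs)
    (mem_centralizer_singleton_iff.1 s.2.2) with ⟨h, -⟩ | ⟨-, ⟨⟨g, hg⟩, -⟩ | h⟩ | ⟨h, -⟩ | ⟨h, -⟩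
  · omega
  · rw [cc_conj (isConj_iff.2 ⟨g, hg⟩)]
    exact (fv_of_five hf).card_cent
  · exact absurd (h7.trans h) (by norm_num)
  · omega
  · omega

theorem exB : ∃ x y : Spor.Ly, TData x ∧ orderOf y = 5 ∧ y * x = x * y ∧ nn x y = 75 ∧ ¬ 4 ∣ cc y ∧ cc y ≤ 3750 := by
  have := fin
  obtain ⟨M⟩ := TypeM.FactsLy.exists_mt_ly
  obtain ⟨f, hf⟩ := SporRec.LyFiveFinal.exists_five (toLy M)
  obtain ⟨x, hx⟩ := exists_tdata_ly
  obtain ⟨q, h1, h2⟩ := mcl 6 (Or.inr rfl)
  obtain ⟨y, h3, h4, h5⟩ := lift hx h1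
  rw [h2] at h5
  change _ = 75 at h5
  have h6 : ¬ 5 ^ 6 ∣ cc y := fun h => by
    obtain ⟨g, hg⟩ := H204.Ore.LyFive.exists_of_six hf card h
    have h7 : zpowers (g * y * g⁻¹) = zpowers f :=
      eq_of_le_of_card_ge (zpowers_le.2 hg) (by
        rw [Nat.card_zpowers, Nat.card_zpowers, Eng.orderOf_conj', h3, (fv_of_five hf).h.f5])
    have h8 : centralizer ({g * y * g⁻¹} : Set Spor.Ly) = centralizer ({f} : Set Spor.Ly) := by
      rw [← SmallSimple.SelfCentPrime.centralizer_zpowers, h7, SmallSimple.SelfCentPrime.centralizer_zpowers]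
    have h9 : nn (g * x * g⁻¹) f = 75 := by
      rw [← h5, ← nn_map (MulAut.conj g) x y, nn, nn, ← h8]
      rfl
    have h10 := two_dvd hf (g := g * x * g⁻¹) ((Eng.orderOf_conj' _ _).trans hx.ord) (by
      rw [← mem_centralizer_singleton_iff, ← h8, mem_centralizer_singleton_iff]
      calc g * x * g⁻¹ * (g * y * g⁻¹) = g * (x * y) * g⁻¹ := by group
        _ = g * y * g⁻¹ * (g * x * g⁻¹) := by rw [← h4]; group)
    omega
  have h7 : ¬ 4 ∣ cc y := fun h => h6 (by rw [cc_of_four M h3 h]; norm_num)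
  have h8 : x ∈ centralizer ({y} : Set Spor.Ly) := mem_centralizer_singleton_iff.2 h4.symm
  have h9 : Nat.card (centralizer ({⟨x, h8⟩} : Set (centralizer ({y} : Set Spor.Ly)))) = 75 := by
    rw [card_sub, inf_comm]
    exact h5
  have h10 : orderOf (⟨x, h8⟩ : centralizer ({y} : Set Spor.Ly)) = 3 := by rw [Subgroup.orderOf_mk, hx.ord]
  have h11 : ¬ 3 ^ 2 ∣ cc y := fun h => by
    have h12 := H904.El.sq_dvd_cent Nat.prime_three h h10
    rw [h9] at h12
    omega
  have h12 : ∀ r ∈ [7, 11, 31, 37, 67], ¬ r ∣ cc y := fun r hr h => by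
    have h13 : r.Prime := (by decide +kernel : ∀ r ∈ [7, 11, 31, 37, 67], r.Prime) r hr
    have : Fact r.Prime := ⟨h13⟩
    obtain ⟨z, hz⟩ := exists_prime_orderOf_dvd_card' (G := centralizer ({y} : Set Spor.Ly)) r h
    have h14 : orderOf (z : Spor.Ly) = r := (Subgroup.orderOf_coe z).trans hz
    have h15 : y * z = z * y := (mem_centralizer_singleton_iff.1 z.2).symm
    have h16 := orderOf_dvd_natCard (⟨y, mem_centralizer_singleton_iff.2 h15⟩ : centralizer ({z.1} : Set Spor.Ly))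
    rw [Subgroup.orderOf_mk, h3] at h16
    simp only [List.mem_cons, List.not_mem_nil, or_false] at hr
    rcases hr with rfl | rfl | rfl | rfl | rfl
    · exact H511.Cyc.Ly.not_adj_five h13 (by norm_num) (by norm_num) h3 h14 h15
    · rw [H511.Ore.Ly.card11 h14] at h16
      omega
    · rw [H511.Ore.Ly.card31 h14] at h16
      omega
    · exact H511.Cyc.Ly.not_adj_five h13 (by norm_num) (by norm_num) h3 h14 h15
    · exact H511.Cyc.Ly.not_adj_five h13 (by norm_num) (by norm_num) h3 h14 h15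
  refine ⟨x, y, hx, h3, h4, h5, h7, le_of_dvd h10 h9 ?_⟩
  have h13 : cc y ∣ 51765179004000000 := card ▸ card_subgroup_dvd_card _
  change cc y ∣ 18750
  have h0 := (cc_pos y).ne'
  rw [← Nat.factorization_prime_le_iff_dvd h0 (by norm_num)]
  intro p hp
  rw [← hp.pow_dvd_iff_le_factorization (by norm_num)]
  have h14 := Nat.ordProj_dvd (cc y) p
  generalize (cc y).factorization p = k at h14
  rcases k with _ | k
  · exact one_dvd _
  have h15 : p ∣ cc y := (dvd_pow_self p (Nat.succ_ne_zero k)).trans h14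
  have h16 : p ∈ Nat.primeFactors 51765179004000000 := Nat.mem_primeFactors.2 ⟨hp, h15.trans h13, by norm_num⟩
  rw [show Nat.primeFactors 51765179004000000 = {2, 3, 5, 7, 11, 31, 37, 67} by decide +kernel] at h16
  simp only [Finset.mem_insert, Finset.mem_singleton] at h16
  rcases h16 with rfl | rfl | rfl | h16
  · have h17 : k + 1 ≤ 1 := by
      by_contra h18
      exact h7 ((pow_dvd_pow 2 (by omega : 2 ≤ k + 1)).trans h14)
    exact (pow_dvd_pow 2 h17).trans (by norm_num)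
  · have h17 : k + 1 ≤ 1 := by
      by_contra h18
      exact h11 ((pow_dvd_pow 3 (by omega : 2 ≤ k + 1)).trans h14)
    exact (pow_dvd_pow 3 h17).trans (by norm_num)
  · have h17 : k + 1 ≤ 5 := by
      by_contra h18
      exact h6 ((pow_dvd_pow 5 (by omega : 6 ≤ k + 1)).trans h14)
    exact (pow_dvd_pow 5 h17).trans (by norm_num)
  · exact absurd h15 (h12 p (by simpa using h16))

end Fv5

open Fv5

theorem box5 : BoxL 5 := by
  have := fin
  obtain ⟨-, y, -, h1, -, -, h2⟩ := exA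
  exact box_one (ty_of h1 [1] [] (by simp [big_five h1, h2]) (by simp) (by decide)) h2.le (by decide)

theorem box6 : BoxL 6 := by
  have := fin
  obtain ⟨-, y, -, h1, -, -, h2, h3⟩ := exB
  exact box_one (ty_of h1 [] [1] (by simp) (by simp [big_five h1, h2]) (by decide)) h3 (by decide)

theorem box20 : BoxL 20 := by
  have := fin
  obtain ⟨x, y, hx, h1, h2, h3, h4⟩ := exA
  obtain ⟨h5, h6, h7, h8⟩ := prod hx.ord h1 h2
  exact box_one (ty_of h5 [3, 5] [] (by simp [h7, h8, big_x hx, big_five h1, h4]) (by simp) (by decide))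
    (h3 ▸ h6) (by decide)

theorem box22 : BoxL 22 := by
  have := fin
  obtain ⟨x, y, hx, h1, h2, h3, h4, -⟩ := exB
  obtain ⟨h5, h6, h7, h8⟩ := prod hx.ord h1 h2
  exact box_one (ty_of h5 [5] [3] (by simp [h8, big_x hx]) (by simp [h7, big_five h1, h4]) (by decide))
    (h3 ▸ h6) (by decide)

theorem box29 : BoxL 29 := by
  have := fin
  obtain ⟨M⟩ := TypeM.FactsLy.exists_mt_ly
  obtain ⟨f₀, K₀, S₀, h₀⟩ := exists_fv M
  obtain ⟨g, hg⟩ := H314.LyOrb.Ord25.exists25
  obtain ⟨t, f, K, S, h, P, h1, -, h2, -⟩ := h₀.exists_sylow card (A := zpowers g)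
    (IsPGroup.of_card (n := 2) (by rw [Nat.card_zpowers, hg]; rfl))
  have h3 : g * f = f * g := mem_centralizer_singleton_iff.1 (h2 (h1 (mem_zpowers g)))
  have h4 : orderOf (g ^ 5) = 5 := by rw [orderOf_pow, hg]; rfl
  have h5 : zpowers f = zpowers (g ^ 5) := by
    obtain ⟨m, hm⟩ := (Submonoid.mem_powers_iff _ _).1
      (mem_powers_iff_mem_zpowers.2 (H868.Dl.LyFive.f_mem h h3 hg))
    have h6 : 25 ∣ m * 5 := by
      rw [← hg, orderOf_dvd_iff_pow_eq_one, pow_mul, hm, ← h.h.f5, pow_orderOf_eq_one]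
    obtain ⟨k, rfl⟩ : 5 ∣ m := by omega
    refine eq_of_le_of_card_ge (zpowers_le.2 ?_) (by rw [Nat.card_zpowers, Nat.card_zpowers, h4, h.h.f5])
    rw [← hm, pow_mul]
    exact pow_mem (mem_zpowers _) k
  have h6 : cc (g ^ 5) = 2250000 := by
    rw [cc, ← SmallSimple.SelfCentPrime.centralizer_zpowers, ← h5, SmallSimple.SelfCentPrime.centralizer_zpowers]
    exact h.card_cent
  exact box_one (ty_of hg [5] [] (by simp [big_five h4, h6]) (by simp) (by decide))
    (H868.Dl.LyFive.card_cent25 h h3 hg) (by decide)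

end Cfsg.Agent.TAB.Ly

private theorem dce_588d49f7d701 : _root_.True := by
  try have : _root_.True := by simp only [_root_.Cfsg.Agent.TAB.Ly.cc.eq_1]
  try have : _root_.True := by simp only [_root_.Cfsg.Agent.CpAutLy.Types.nn.eq_1]
  exact _root_.True.intro
end

-- part: TAB/Ly/Prime
section
set_option linter.all false
open scoped Cfsg.Agent.FastGrp

/-!
# The Lyons group : the boxes `7A 11AB 21AB 31 33AB 37AB 67` (helper50, TAB)
-/

set_option autoImplicit false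
set_option maxRecDepth 100000

namespace Cfsg.Agent.TAB.Ly

open Cfsg Subgroup

namespace Pr

section gen

variable {G : Type*} [Group G]

theorem conj_iter {g x : G} {k : ℕ} (h : g * x * g⁻¹ = x ^ k) (n : ℕ) : g ^ n * x * (g ^ n)⁻¹ = x ^ k ^ n := by
  induction n with
  | zero => simp
  | succ n ih =>
    calc g ^ (n + 1) * x * (g ^ (n + 1))⁻¹ = g * (g ^ n * x * (g ^ n)⁻¹) * g⁻¹ := by rw [pow_succ']; group
      _ = x ^ k ^ (n + 1) := by rw [ih, ← conj_pow, h, ← pow_mul, pow_succ']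

variable [Finite G]

theorem conj_mod {g x : G} {k e : ℕ} (hN : Nat.card (normalizer (zpowers x : Set G)) = cc x * e)
    (h : g * x * g⁻¹ = x ^ k) : k ^ e ≡ 1 [MOD orderOf x] := by
  have hg : g ∈ normalizer (zpowers x : Set G) := mem_normalizer_fintype fun y hy => by
    obtain ⟨j, rfl⟩ := mem_zpowers_iff.1 hy
    rw [← conj_zpow, h]
    exact zpow_mem (pow_mem (mem_zpowers x) k) j
  have h1 := ((zpowers x).normalizerMonoidHom.ker).card_mul_index
  have h2 := ((zpowers x).normalizerMonoidHom.ker).pow_index_mem ⟨g, hg⟩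
  rw [normalizerMonoidHom_ker, Nat.card_congr (subgroupOfEquivOfLe (centralizer_le_normalizer _)).toEquiv, hN,
    H904.SylOne.centralizer_zpowers_eq] at h1
  simp only [normalizerMonoidHom_ker, H904.SylOne.centralizer_zpowers_eq] at h2
  rw [Nat.eq_of_mul_eq_mul_left (cc_pos x) h1, mem_subgroupOf, mem_centralizer_singleton_iff] at h2
  rw [← pow_eq_pow_iff_modEq, ← conj_iter h, pow_one, mul_inv_eq_iff_eq_mul]
  exact h2

theorem not_conj {x : G} {r e a b : ℕ} (hx : orderOf x = r) (hN : Nat.card (normalizer (zpowers x : Set G)) = cc x * e)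
    (h : Nat.gcd a r = 1 ∧ a ^ e % r ≠ b ^ e % r) : ¬ IsConj (x ^ a) (x ^ b) := fun hc => by
  obtain ⟨g, hg⟩ := isConj_iff.1 hc
  obtain ⟨m, hm⟩ := exists_pow_eq_self_of_coprime (x := x) (n := a) (hx ▸ h.1)
  have h1 : g * x * g⁻¹ = x ^ (b * m) := by rw [pow_mul, ← hg, conj_pow, hm]
  have h2 := conj_mod hN h1
  rw [← conj_pow, h1, ← pow_mul, pow_eq_pow_iff_modEq] at hg
  rw [hx] at h2 hg
  have h3 := hg.pow e
  rw [mul_pow] at h3
  have h4 := (h2.mul_right (a ^ e)).symm.trans h3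
  rw [one_mul] at h4
  exact h.2 h4

omit [Finite G] in
theorem mul_pow_mod {x y : G} (h : y * x = x * y) (k : ℕ) : (x * y) ^ k = x ^ (k % orderOf x) * y ^ (k % orderOf y) := by
  rw [Commute.mul_pow h.symm, pow_mod_orderOf, pow_mod_orderOf]

end gen

open Cfsg.Agent.H438.Fpr.Ly Cfsg.Agent.CpAutLy.Types Cfsg.Agent.CpAutLy.Base Cfsg.Agent.H493.Sep.LyLoc

theorem base : H940.Eng.Base := ⟨OrdDiv.table, fun _ _ _ _ => S0000.result⟩

theorem dat7 {x : Spor.Ly} (hx : orderOf x = 7) :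
    cc x = 168 ∧ Nat.card (normalizer (zpowers x : Set Spor.Ly)) = 1008 := by
  have := cn7 base (R := zpowers x) (by rw [Nat.card_zpowers, hx])
  rwa [H904.SylOne.centralizer_zpowers_eq] at this

theorem not_conj11 {x : Spor.Ly} (hx : orderOf x = 11) : ¬ IsConj x (x ^ 2) := by
  have := Ly.fin
  have h := not_conj (e := 5) (a := 1) (b := 2) hx (by
    rw [(cn11 (R := zpowers x) (by rw [Nat.card_zpowers, hx])).2, cc, H511.Ore.Ly.card11 hx]) (by decide)
  rwa [pow_one] at h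

theorem big0 {x : Spor.Ly} (h : Three x) : Big x :=
  (big_three h.ord).2 (by rw [cc, H124.Cop.SCLy.card_three h]; norm_num)

theorem cc_le {x y : Spor.Ly} {a b : ℕ} (ha : (x * y) ^ a = y) (hb : (x * y) ^ b = x) :
    cc (x * y) ≤ nn y x := by
  have := Ly.fin
  refine card_le_of_le (le_inf ?_ ?_)
  · conv_rhs => rw [← ha]
    exact cent_pow_le _ a
  · conv_rhs => rw [← hb]
    exact cent_pow_le _ b

end Pr

open Pr Cfsg.Agent.H438.Fpr.Ly Cfsg.Agent.CpAutLy.Types Cfsg.Agent.CpAutLy.Base Cfsg.Agent.H493.Sep.LyLoc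

theorem box10 : BoxL 10 := by
  have := Ly.fin
  obtain ⟨x, hx⟩ := H511.Ore.Ly.ex 7 (by norm_num) (by norm_num)
  exact box_one (ty_of hx [] [] (by simp) (by simp) (by decide)) (dat7 hx).1.le (by decide)

theorem box16 : BoxL 16 := by
  have := Ly.fin
  obtain ⟨x, hx⟩ := H511.Ore.Ly.ex 11 (by norm_num) (by norm_num)
  exact box_two 2 (ty_of hx [] [] (by simp) (by simp) (by decide)) (H511.Ore.Ly.card11 hx).le (not_conj11 hx) (by decide)

theorem box33 : BoxL 33 := by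
  have := Ly.fin
  obtain ⟨x, hx⟩ := H511.Ore.Ly.ex 31 (by norm_num) (by norm_num)
  have h1 := H511.Ore.Ly.card31 hx
  refine box_ks [1, 3, 9, 27, 19] (ty_of hx [] [] (by simp) (by simp) (by decide)) h1.le ?_ (by decide)
  exact List.Pairwise.imp (not_conj (e := 6) hx (by rw [(H511.Cyc.Ly.dat31 hx).2, cc, h1])) (by decide)

theorem box35 : BoxL 35 := by
  have := Ly.fin
  obtain ⟨x, hx⟩ := H511.Ore.Ly.ex 37 (by norm_num) (by norm_num)
  have h1 := H215.CC.LyThirtySeven.card_centralizer (fun _ _ _ _ => S0000.result) ⟨MulEquiv.refl _⟩ hx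
  refine box_ks [1, 2] (ty_of hx [] [] (by simp) (by simp) (by decide)) h1.le ?_ (by decide)
  exact List.Pairwise.imp (not_conj (e := 18) hx (by rw [(H511.Cyc.Ly.dat37 hx).2, cc, h1])) (by decide)

theorem box38 : BoxL 38 := by
  have := Ly.fin
  obtain ⟨x, hx⟩ := H511.Ore.Ly.ex 67 (by norm_num) (by norm_num)
  have h1 := H511.Cyc.Ly.dat67 hx
  refine box_ks [1, 2, 4] (ty_of hx [] [] (by simp) (by simp) (by decide)) h1.1.le ?_ (by decide)
  exact List.Pairwise.imp (not_conj (e := 22) hx (by rw [h1.2, cc, h1.1])) (by decide)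

theorem box34 : BoxL 34 := by
  have := Ly.fin
  obtain ⟨x, h₀⟩ := exists_three
  obtain ⟨y, hy, hyx⟩ := exists_of_three h₀ (r := 11) (by norm_num) (by norm_num)
  have h1 : nn y x ∣ 3 * 11 := nn_three h₀ (by norm_num) (by norm_num) (fun P hP => by
    rw [(H904.McLCent.eleven h₀.quot P hP).1]) hy hyx
  have hp := mul_pow_mod hyx
  rw [h₀.ord, hy] at hp
  have ho : orderOf (x * y) = 33 := by
    rw [Commute.orderOf_mul_eq_mul_orderOf_of_coprime hyx.symm (by rw [h₀.ord, hy]; decide), h₀.ord, hy]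
  refine box_two 2 (ty_of ho [11] [] (fun d hd => ?_) (by simp) (by decide))
    ((cc_le (a := 12) (b := 22) (by simp [hp]) (by simp [hp])).trans (Nat.le_of_dvd (by norm_num) h1))
    (fun h => not_conj11 hy ?_) (by decide)
  · rw [List.mem_singleton.1 hd, hp]
    simpa using (big_pow (k := 2) (by rw [h₀.ord]; decide)).2 (big0 h₀)
  · have := h.pow 12
    rw [← pow_mul] at this
    simpa [hp] using this

theorem box25 : BoxL 25 := by
  have := Ly.fin
  have := Fact.mk Nat.prime_three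
  obtain ⟨x, h₀⟩ := exists_three
  obtain ⟨y, hy, hyx⟩ := exists_of_three h₀ (r := 7) (by norm_num) (by norm_num)
  have h1 : nn y x ∣ 3 * 14 := nn_three h₀ (by norm_num) (by norm_num) (fun P hP =>
    (H904.McLCent.seven h₀.quot P hP).1) hy hyx
  have hp := mul_pow_mod hyx
  rw [h₀.ord, hy] at hp
  have ho : orderOf (x * y) = 21 := by
    rw [Commute.orderOf_mul_eq_mul_orderOf_of_coprime hyx.symm (by rw [h₀.ord, hy]; decide), h₀.ord, hy]
  refine box_two 2 (ty_of ho [7] [] (fun d hd => ?_) (by simp) (by decide))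
    ((cc_le (a := 15) (b := 7) (by simp [hp]) (by simp [hp])).trans (Nat.le_of_dvd (by norm_num) h1))
    (fun h => ?_) (by decide)
  · rw [List.mem_singleton.1 hd, hp]
    simpa using big0 h₀
  obtain ⟨g, hg⟩ := isConj_iff.1 h
  have h2 := conj_iter hg 3
  have h3 : g ^ 3 * x * (g ^ 3)⁻¹ = x ^ 2 := by
    have := congrArg (· ^ 7) h2
    simp only [← pow_mul] at this
    simpa only [conj_pow, hp, Nat.reducePow, Nat.reduceMul, Nat.reduceMod, pow_one, pow_zero, mul_one]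
      using this
  have h4 : g ^ 3 * y * (g ^ 3)⁻¹ = y := by
    have := congrArg (· ^ 15) h2
    simp only [← pow_mul] at this
    simpa only [conj_pow, hp, Nat.reducePow, Nat.reduceMul, Nat.reduceMod, pow_one, pow_zero, one_mul]
      using this
  have hc : Nat.card (centralizer ({y} : Set Spor.Ly)) = 168 := (dat7 hy).1
  obtain ⟨s, hs⟩ := exists_prime_orderOf_dvd_card' (hp := Fact.mk Nat.prime_two)
    (G := centralizer ({y} : Set Spor.Ly)) 2 (by rw [hc]; norm_num)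
  have hs' : orderOf (s : Spor.Ly) = 2 := by rw [Subgroup.orderOf_coe, hs]
  have h5 := eq_of_le_of_card_ge (inf_le_left (b := centralizer ({(s : Spor.Ly)} : Set Spor.Ly)))
    (hc.trans (nn_seven hy hs' (mem_centralizer_singleton_iff.1 s.2)).symm).le
  set x' : centralizer ({y} : Set Spor.Ly) := ⟨x, mem_centralizer_singleton_iff.2 hyx.symm⟩
  have hx' : orderOf x' = 3 := (Subgroup.orderOf_mk _ _).trans h₀.ord
  have h6 : 2 ∣ cc x' := hs ▸ Subgroup.orderOf_dvd_natCard _ (mem_centralizer_singleton_iff.2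
    (Subtype.ext (mem_centralizer_singleton_iff.1 ((h5.ge x'.2).2)).symm))
  obtain ⟨K, e, t, e1, e2, e3, e4, e5⟩ := H904.SylOne.main (p := 3) (by rw [hc]; norm_num) hx'
  have h7 := conj_mod (g := ⟨g ^ 3, mem_centralizer_singleton_iff.2 (mul_inv_eq_iff_eq_mul.1 h4)⟩) (x := x') (k := 2)
    (e := e) (by rw [(e5 _ (by rw [Nat.card_zpowers, hx'])).2, cc, e2]) (Subtype.ext h3)
  rw [← nn_eq' x', e2] at h1
  rw [cc, e2] at h6
  rw [hx'] at h7
  rw [hc] at e3
  have h8 : K ≤ 14 := by have := Nat.le_of_dvd (by norm_num) h1; omega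
  have h9 : e ≤ 2 := Nat.le_of_dvd (by norm_num) e1
  unfold Nat.ModEq at e4 h7
  interval_cases e <;> interval_cases K <;> omega

end Cfsg.Agent.TAB.Ly

private theorem dce_9befbd615403 : _root_.True := by
  try have : _root_.True := by simp only [_root_.Cfsg.Agent.TAB.Ly.cc.eq_1]
  exact _root_.True.intro
end

-- part: TAB/Ly/Five0
section
set_option linter.all false
open scoped Cfsg.Agent.FastGrp

/-!
# The Lyons group : the key on the elements of orders 3 and 5 (helper57, TAB)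

* `cS m` : the order of the centralizer in `S₁₁` of a permutation of type `m`;
* `not_four` : an element of order 5 with `4 ∣ |C(y)|` is 5-central; `big_five_iff`;
* `conj_of_seven` : an element of order 3 with `7 ∣ |C(y)|` is conjugate to `x₀`; `big_three_iff`.
-/

set_option autoImplicit false

namespace Cfsg.Agent.TAB.Ly

open Cfsg Subgroup Equiv Cfsg.Agent.SporRec.TwoAn Cfsg.Agent.TypeM.Two Cfsg.Agent.TypeM.McLFromLy
open Cfsg.Agent.CpAutLy.Cov Cfsg.Agent.CpAutLy.Types Cfsg.Agent.CpAutLy.Base Cfsg.Agent.H582.Ly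
open Cfsg.Agent.H710.Spor.Ly Cfsg.Agent.CpAutLy

universe u

/-- the order of the centralizer in `S₁₁` -/
def cS (m : Multiset ℕ) : ℕ := (11 - m.sum).factorial * m.prod * ∏ n ∈ m.toFinset, (m.count n).factorial

theorem card_cS (σ : Perm (Fin 11)) : Nat.card (centralizer ({σ} : Set (Perm (Fin 11)))) = cS σ.cycleType := by
  rw [Equiv.Perm.nat_card_centralizer, Fintype.card_fin, cS]

theorem hasOdd_of_type {α : Type*} [Fintype α] [DecidableEq α] {σ τ : Perm α} (h : τ.cycleType = σ.cycleType)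
    (ho : HasOdd τ) : HasOdd σ := by
  obtain ⟨c, rfl⟩ := isConj_iff.1 (Perm.isConj_iff_cycleType_eq.2 h)
  obtain ⟨ρ, h1, h2⟩ := ho
  exact ⟨c * ρ * c⁻¹, McLThree.conj_comm c h1, by simp [h2, mul_assoc]⟩

theorem hasOdd55 : HasOdd (cyc 0 5 * cyc 5 5) :=
  ⟨swap (0 : Fin 11) 5 * swap (1 : Fin 11) 6 * swap (2 : Fin 11) 7 * swap (3 : Fin 11) 8 * swap (4 : Fin 11) 9, by decide +kernel, by decide +kernel⟩

theorem type55 : (cyc 0 5 * cyc 5 5).cycleType = {5, 5} := by decide +kernel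

section

variable {G : Type u} [Group G] [Finite G] (L : MT 11 G)

omit [Finite G] in
theorem nn_coe {t : G} (y : centralizer ({t} : Set G)) :
    Nat.card (centralizer ({y} : Set (centralizer ({t} : Set G)))) = nn (y : G) t :=
  nn_eq (x := (y : G)) (mem_centralizer_singleton_iff.1 y.2).symm

omit [Finite G] in
theorem nn_dvd (x t : G) : nn x t ∣ cc x := card_dvd_of_le inf_le_left

omit [Finite G] in
theorem nn_55 {y : centralizer ({L.t} : Set G)} (hy : y ^ 5 = 1) (h : (L.K.π y).cycleType = {5, 5}) :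
    nn (y : G) L.t = 50 := by
  rw [← nn_coe, card_eq L.K (n := 5) (by decide) hy (hasOdd_of_type (type55.trans h.symm) hasOdd55), card_cS, h]
  decide

omit [Finite G] in
theorem five_cases {y : centralizer ({L.t} : Set G)} (hy : orderOf (y : G) = 5) :
    ((L.K.π y).cycleType = {5} ∧ nn (y : G) L.t = 3600) ∨ ((L.K.π y).cycleType = {5, 5} ∧ nn (y : G) L.t = 50) := by
  rw [Subgroup.orderOf_coe] at hy
  have h5 : y ^ 5 = 1 := by rw [← hy, pow_orderOf_eq_one]
  have h1 : y ≠ 1 := fun e => by rw [e, orderOf_one] at hy; omega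
  rcases H799.PB.cent_cases L.K Nat.prime_five (by decide) h5 h1 with h | ⟨-, h | h⟩ | h | h
  · omega
  · exact Or.inl ⟨h.1, (nn_coe y).symm.trans h.2⟩
  · exact Or.inr ⟨h.1, nn_55 L h5 h.1⟩
  · omega
  · omega

/-- an involution `s` of `C(y)` with `4 ∣ |C(y, s)|` -/
theorem exists_four {y : G} (h : 4 ∣ cc y) : ∃ s : G, orderOf s = 2 ∧ s * y = y * s ∧ 4 ∣ nn y s := by
  have := Fact.mk Nat.prime_two
  obtain ⟨T, hT⟩ := Sylow.exists_subgroup_card_pow_prime (G := centralizer ({y} : Set G)) 2 (n := 2) h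
  obtain ⟨e, -, h1, h2⟩ := Bound.exists_central (IsPGroup.of_card hT) fun e => by
    rw [e, card_bot] at hT
    omega
  refine ⟨e, by rw [Subgroup.orderOf_coe, h1], mem_centralizer_singleton_iff.1 e.2, ?_⟩
  rw [← nn_eq' e]
  exact (show 4 ∣ Nat.card T by rw [hT]; rfl).trans (card_dvd_of_le (Bound.le_cent h2))

include L in
/-- **an element of order 5 with `4 ∣ |C(y)|` is 5-central** -/
theorem not_four {y : G} (hy : orderOf y = 5) (h : 4 ∣ cc y) :
    ∃ (t : G) (K S : Subgroup G), Fv t y K S ∧ nn y t = 3600 := by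
  obtain ⟨s, h1, h2, h3⟩ := exists_four h
  obtain ⟨h4, h5⟩ := MT.sq_of_orderOf h1
  obtain ⟨L', rfl⟩ := L.exists_rebase h4 h5
  rcases five_cases L' (y := xc h2) hy with h6 | h6
  · obtain ⟨K, S, h7⟩ := fv_of_type L' (x := y) (by rw [← hy, pow_orderOf_eq_one]) h2.symm h6.1
    exact ⟨_, K, S, h7, h6.2⟩
  · have h7 : nn y L'.t = 50 := h6.2
    omega

include L in
theorem nn_of_four {y s : G} (hy : orderOf y = 5) (h : 4 ∣ cc y) (hs : orderOf s = 2) (hsy : s * y = y * s) :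
    nn y s = 3600 := by
  obtain ⟨t, K, S, h1, h2⟩ := not_four L hy h
  obtain ⟨n, hn, rfl⟩ := H868.Dl.LyFive.exists_conj_t h1 hsy hs
  rw [← h2, ← nn_conj n y t, h1.h.cent n hn, mul_inv_cancel_right]

/-- **the key on the elements of order 5 of `C(t)`** -/
theorem big_five_iff {y : centralizer ({L.t} : Set G)} (hy : orderOf (y : G) = 5) :
    Big (y : G) ↔ (L.K.π y).cycleType = {5} := by
  rw [big_five hy]
  rcases five_cases L hy with h | h
  · exact iff_of_true ((show 4 ∣ _ by rw [h.2]; decide).trans (nn_dvd _ L.t)) h.1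
  · refine iff_of_false (fun h1 => ?_) (by rw [h.1]; decide)
    have h2 := nn_of_four L hy h1 L.orderOf_t (mem_centralizer_singleton_iff.1 y.2).symm
    omega

end

theorem base : H940.Eng.Base := ⟨OrdDiv.table, fun _ _ _ _ => S0000.result⟩

theorem cent_zpowers {G : Type*} [Group G] (x : G) :
    centralizer (zpowers x : Set G) = centralizer ({x} : Set G) := by
  rw [zpowers_eq_closure, centralizer_closure]

theorem cc_seven {v : Spor.Ly} (hv : orderOf v = 7) : cc v = 168 := by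
  rw [cc, ← cent_zpowers]
  exact (H438.Fpr.Ly.cn7 base (by rw [Nat.card_zpowers, hv])).1

/-- the centralizer of an element of order 7 lies in the centralizer of an involution -/
theorem exists_inv_seven {v : Spor.Ly} (hv : orderOf v = 7) : ∃ s : Spor.Ly, orderOf s = 2 ∧
    centralizer ({v} : Set Spor.Ly) ≤ centralizer ({s} : Set Spor.Ly) := by
  have := fin
  have := Fact.mk Nat.prime_two
  obtain ⟨s, hs⟩ := exists_prime_orderOf_dvd_card' (G := centralizer ({v} : Set Spor.Ly)) 2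
    (by rw [show Nat.card _ = 168 from cc_seven hv]; decide)
  have h1 : orderOf (s : Spor.Ly) = 2 := by rw [Subgroup.orderOf_coe, hs]
  refine ⟨s, h1, inf_eq_left.1 (eq_of_le_of_card_ge inf_le_left (le_of_eq ?_))⟩
  exact (cc_seven hv).trans (H438.Fpr.Ly.nn_seven hv h1 (mem_centralizer_singleton_iff.1 s.2)).symm

/-- **an element of order 3 with `7 ∣ |C(y)|` is conjugate to `x₀`** -/
theorem conj_of_seven {x₀ y : Spor.Ly} (h₀ : Three x₀) (hy : orderOf y = 3) (h : 7 ∣ cc y) :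
    ∃ g : Spor.Ly, g * x₀ * g⁻¹ = y := by
  have := fin
  have := Fact.mk (by decide : Nat.Prime 7)
  obtain ⟨L⟩ := TypeM.FactsLy.exists_mt_ly
  obtain ⟨v, hv⟩ := exists_prime_orderOf_dvd_card' (G := centralizer ({y} : Set Spor.Ly)) 7 h
  have h1 : orderOf (v : Spor.Ly) = 7 := by rw [Subgroup.orderOf_coe, hv]
  obtain ⟨s, hs, h2⟩ := exists_inv_seven h1
  have h3 : y * s = s * y := mem_centralizer_singleton_iff.1
    (h2 (mem_centralizer_singleton_iff.2 (mem_centralizer_singleton_iff.1 v.2).symm))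
  have h4 : 7 ∣ nn y s := by
    rw [← h1]
    exact Subgroup.orderOf_dvd_natCard _ ⟨v.2, h2 (mem_centralizer_singleton_iff.2 rfl)⟩
  obtain ⟨s₀, h5, h6, h7⟩ := Row.exists_base_nn h₀
  refine exists_conj_of_nn L h₀.ord h5 h6 h7 hy hs h3.symm ?_
  rcases nn_cases L hy hs h3.symm with h8 | h8 | h8 <;> omega

theorem nn_of_seven {y s : Spor.Ly} (hy : orderOf y = 3) (h : 7 ∣ cc y) (hs : orderOf s = 2) (hsy : s * y = y * s) :
    nn y s = 120960 := by
  obtain ⟨L⟩ := TypeM.FactsLy.exists_mt_ly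
  obtain ⟨x₀, h₀⟩ := exists_three
  obtain ⟨g, rfl⟩ := conj_of_seven h₀ hy h
  have h1 := H569.PV.LyThree.seven_dvd_nn h₀ (s := g⁻¹ * s * g⁻¹⁻¹) (by rw [McLThree.orderOf_conj', hs]) (by
    have h2 := McLThree.conj_comm g⁻¹ hsy
    simpa [mul_assoc] using h2)
  rw [← nn_conj g, show g * (g⁻¹ * s * g⁻¹⁻¹) * g⁻¹ = s by group] at h1
  rcases nn_cases L hy hs hsy with h8 | h8 | h8 <;> omega

/-- **the key on the elements of order 3 of `C(t)`** -/
theorem big_three_iff (L : MT 11 Spor.Ly) {y : centralizer ({L.t} : Set Spor.Ly)} (hy : orderOf (y : Spor.Ly) = 3) :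
    Big (y : Spor.Ly) ↔ (L.K.π y).cycleType = {3} := by
  rw [big_three hy]
  have h0 : L.t * y = y * L.t := (mem_centralizer_singleton_iff.1 y.2).symm
  rcases cases L hy h0 with h | h | h
  · exact iff_of_true ((show 7 ∣ _ by rw [h.2]; decide).trans (nn_dvd _ L.t)) h.1
  all_goals
    refine iff_of_false (fun h1 => ?_) (fun h1 => absurd (h.1.symm.trans h1) (by decide))
    have h2 := nn_of_seven hy h1 L.orderOf_t h0
    omega

theorem tdata {x₀ : Spor.Ly} (h : Three x₀) : TData x₀ := by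
  refine ⟨h.ord, Row.exists_base_nn h, ?_, h.zcard, h.quot⟩
  obtain ⟨-, hs, -, -⟩ := TypeM.FactsMcL.facts h.quot
  exact ⟨(Group.isPerfect_def (G := ↥(centralizer ({x₀} : Set Cfsg.Spor.Ly)))).2 h.perfect, hs⟩

theorem cc_three {x₀ : Spor.Ly} (h : Three x₀) : cc x₀ = 2694384000 := (tdata h).mcl.card

theorem big_base {x₀ : Spor.Ly} (h : Three x₀) : Big x₀ := by
  rw [big_three h.ord, cc_three h]
  decide

/-- the box of `3A` -/
theorem box2 : BoxL 2 := by
  have := fin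
  obtain ⟨x₀, h⟩ := exists_three
  exact box_one (ty_of h.ord [1] [] (by simpa using big_base h) (by simp) (by decide)) (cc_three h).le (by decide)

end Cfsg.Agent.TAB.Ly

private theorem dce_2c8ea59040d2 : _root_.True := by
  try have : _root_.True := by simp only [_root_.Cfsg.Agent.TAB.Ly.cc.eq_1]
  try have : _root_.True := by simp only [_root_.Cfsg.Agent.TAB.Ly.cS.eq_1]
  exact _root_.True.intro
end

-- part: TAB/Ly/Cov
section
set_option linter.all false
open scoped Cfsg.Agent.FastGrp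

/-!
# The Lyons group : the types and the centralizers of the elements of `C(t) = 2.A₁₁` (helper57, TAB)
-/

set_option autoImplicit false

namespace Cfsg.Agent.TAB.Ly

open Cfsg Subgroup Equiv Cfsg.Agent.SporRec.TwoAn Cfsg.Agent.TypeM.Two Cfsg.Agent.TypeM.McLFromLy
open Cfsg.Agent.CpAutLy.Cov Cfsg.Agent.CpAutLy.Types Cfsg.Agent.CpAutLy.Base
open Cfsg.Agent.H710.Spor.Ly Cfsg.Agent.CpAutLy Cfsg.Agent.TAB.Eng

universe u

section cover

variable {C : Type*} [Group C] (K : Cover (Fin 11) C)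

theorem odd_dvd_iff {p : ℕ} (hp : p.Prime) (hp2 : Odd p) (y : C) :
    p ∣ Nat.card (centralizer ({y} : Set C)) ↔ p ∣ cS (K.π y).cycleType := by
  have := Fact.mk hp
  rw [← card_cS]
  refine ⟨fun h => (Nat.coprime_two_right.2 hp2).dvd_of_dvd_mul_left (h.trans (CpAut.Cyc.card_cent_dvd K y)),
    fun h => ?_⟩
  obtain ⟨ρ, hρ⟩ := exists_prime_orderOf_dvd_card' p h
  rw [← Subgroup.orderOf_coe] at hρ
  have h1 : (ρ : Perm (Fin 11)) ^ p = 1 := by rw [← hρ, pow_orderOf_eq_one]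
  obtain ⟨r, h2, h3⟩ := K.exists_odd_lift (even_of_odd hp2 h1) hp2 h1
  have h4 : r ∈ centralizer ({y} : Set C) := mem_centralizer_singleton_iff.2
    (K.commute_of_odd hp2 h3 (by rw [h2]; exact mem_centralizer_singleton_iff.1 ρ.2))
  refine Dvd.dvd.trans ?_ (Subgroup.orderOf_dvd_natCard _ h4)
  rw [← hρ, ← h2]
  exact orderOf_map_dvd K.π r

/-- an element commuting with `y` only modulo `z` -/
theorem half_of {y r : C} (ho : HasOdd (K.π y)) (h : K.π r * K.π y = K.π y * K.π r) (hne : r * y ≠ y * r) :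
    2 * Nat.card (centralizer ({y} : Set C)) ≤ cS (K.π y).cycleType := by
  rw [← card_cS, ← card_inf_alternating ho, ← card_split K y]
  refine Nat.mul_le_mul_left _ ?_
  obtain ⟨k, hk⟩ := card_dvd_of_le (map_le K y)
  have h1 : k ≠ 1 := fun e => by
    rw [e, mul_one] at hk
    have h2 := eq_of_le_of_card_ge (map_le K y) hk.le
    obtain ⟨g, h3, h4⟩ : K.π r ∈ (centralizer ({y} : Set C)).map K.π := by
      rw [h2]
      exact ⟨mem_centralizer_singleton_iff.2 h, K.mem_alternating r⟩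
    have h5 := mem_centralizer_singleton_iff.1 h3
    rcases K.lift_eq h4.symm with rfl | rfl
    · exact hne h5
    · exact hne (by rw [mul_assoc, ← K.z_comm, ← mul_assoc, h5, mul_assoc])
  have h2 : k ≠ 0 := fun e => by
    rw [e, mul_zero] at hk
    exact Nat.card_pos.ne' hk
  rw [hk]
  exact Nat.mul_le_mul_left _ (by omega)

/-- the check of `half` -/
def okH (σ τ ρ : Perm (Fin 11)) : Bool :=
  decide (Perm.sign τ = 1 ∧ Perm.sign ρ = 1 ∧ ρ * σ = σ * ρ ∧ (∀ i, ρ i = i ∨ (σ * τ) i = i) ∧ τ * τ = 1 ∧ ρ * ρ = 1 ∧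
    ρ * τ * (ρ * τ) = 1 ∧ τ.support.card = 4 * 1 ∧ ρ.support.card = 4 * 1 ∧ (ρ * τ).support.card = 4 * 1)

theorem half {y : C} (ho : HasOdd (K.π y)) {τ ρ : Perm (Fin 11)} (h : okH (K.π y) τ ρ = true) :
    2 * Nat.card (centralizer ({y} : Set C)) ≤ cS (K.π y).cycleType := by
  obtain ⟨h1, h2, h3, h4, h5, h6, h7, h8, h9, h10⟩ := of_decide_eq_true h
  obtain ⟨u, rfl⟩ := K.exists_lift (Perm.mem_alternatingGroup.2 h1)
  obtain ⟨r, rfl⟩ := K.exists_lift (Perm.mem_alternatingGroup.2 h2)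
  refine half_of K ho h3 fun hc => ?_
  have e1 : r * (y * u) = y * u * r := K.commute_of_disjoint (by rw [map_mul]; exact h4)
  have e2 : r * u = u * r := by
    rw [← mul_assoc, hc, mul_assoc, mul_assoc] at e1
    exact mul_left_cancel e1
  have e3 := K.sq_eq h5 h8
  have e4 := K.sq_eq h6 h9
  have e5 := K.sq_eq (g := r * u) (by rw [map_mul]; exact h7) (by rw [map_mul]; exact h10)
  rw [pow_one] at e3 e4 e5
  refine K.z_ne ?_
  rw [← e5, ← K.z_mul_z]
  nth_rewrite 1 [← e4]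
  rw [← e3, mul_assoc, mul_assoc, ← mul_assoc u, ← e2, mul_assoc]

end cover

/-- the key in terms of the permutations -/
def bigB (σ : Perm (Fin 11)) (n : ℕ) : Bool :=
  decide ((n = 3 ∧ σ.cycleType = {3}) ∨ (n = 5 ∧ σ.cycleType = {5}) ∨ ((n = 6 ∨ n = 8) ∧ 5 ∣ cS σ.cycleType))

/-- the check of `ty_lift` -/
def okL (i : ℕ) (σ : Perm (Fin 11)) : Bool :=
  (dat.pw i).all fun p => val p.2 == bigB (σ ^ p.1) (dat.ord i / Nat.gcd (dat.ord i) p.1) &&
    (dat.ord i / Nat.gcd (dat.ord i) p.1 % 2 == 1 ||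
      (p.1 * (dat.ord i / Nat.gcd (dat.ord i) p.1 / 2) == dat.ord i / 2 && dat.ord i % 2 == 0))

variable (L : MT 11 Spor.Ly)

theorem cc_eq {G : Type u} [Group G] (L : MT 11 G) {y : centralizer ({L.t} : Set G)} {k : ℕ} (hk : y ^ k = L.K.z) :
    cc (y : G) = Nat.card (centralizer ({y} : Set (centralizer ({L.t} : Set G)))) := by
  rw [nn_coe, nn, inf_eq_left.2, cc]
  exact (cent_pow_le _ k).trans_eq
    (congrArg (fun t : G => centralizer ({t} : Set G)) ((congrArg Subtype.val hk).trans L.hz))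

theorem big_iff {w : centralizer ({L.t} : Set Spor.Ly)} {n : ℕ} (ho : orderOf (w : Spor.Ly) = n)
    (hz : n % 2 = 1 ∨ ∃ k, w ^ k = L.K.z) : Big (w : Spor.Ly) ↔ bigB (L.K.π w) n = true := by
  have := fin
  rw [bigB, decide_eq_true_iff]
  by_cases h3 : n = 3
  · subst h3
    simp [big_three_iff L ho]
  by_cases h5 : n = 5
  · subst h5
    simp [big_five_iff L ho]
  by_cases h6 : n = 6 ∨ n = 8
  · obtain ⟨k, hk⟩ := hz.resolve_left (by omega)
    rw [Big, ho, cc_eq L hk, odd_dvd_iff L.K Nat.prime_five (by decide)]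
    simp [h3, h5]
  · simp [Big, ho, h3, h5, h6]

/-- **the type of an element of `C(t)`** -/
theorem ty_lift {i : ℕ} {y : centralizer ({L.t} : Set Spor.Ly)} (ho : orderOf (y : Spor.Ly) = dat.ord i)
    (hz : dat.ord i % 2 = 0 → y ^ (dat.ord i / 2) = L.K.z) (hc : okL i (L.K.π y) = true) :
    @TyL _ _ fin i (y : Spor.Ly) := by
  have := fin
  refine ⟨ho, fun p hp => ?_⟩
  have h1 := List.all_eq_true.1 hc p hp
  simp only [Bool.and_eq_true, beq_iff_eq, Bool.or_eq_true] at h1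
  change (val p.2 = true ↔ Big ((y ^ p.1 : centralizer ({L.t} : Set Spor.Ly)) : Spor.Ly))
  rw [big_iff L (n := dat.ord i / Nat.gcd (dat.ord i) p.1) (by rw [← ho]; exact orderOf_pow _)
    (h1.2.imp_right fun h => ⟨_, by rw [← pow_mul, h.1, hz h.2]⟩), h1.1, map_pow]

/-- an element of the type `i` over `σ` with a power equal to `t` -/
def Rp (i : ℕ) (σ : Perm (Fin 11)) (y : centralizer ({L.t} : Set Spor.Ly)) : Prop :=
  L.K.π y = σ ∧ @TyL _ _ fin i (y : Spor.Ly) ∧ y ^ (dat.ord i / 2) = L.K.z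

theorem rp_odd (i n : ℕ) (σ : Perm (Fin 11))
    (h : (decide (Perm.sign σ = 1 ∧ n % 2 = 1 ∧ hasOrd σ n ∧ dat.ord i = n * 2) && okL i σ) = true) :
    ∃ y, Rp L i σ y := by
  have := fin
  rw [Bool.and_eq_true, decide_eq_true_iff] at h
  obtain ⟨⟨h1, h2, h3, h4⟩, h5⟩ := h
  obtain ⟨w, h6, h7, h8⟩ := H455.ZerosLy.odd_elt L h1 (Nat.odd_iff.2 h2) (orderOf_of_hasOrd (by omega) h3)
  have h9 : w ^ (dat.ord i / 2) = L.K.z := by rw [h4, Nat.mul_div_cancel _ two_pos, h8]
  exact ⟨w, h6, ty_lift L (h7.trans h4.symm) (fun _ => h9) (h6 ▸ h5), h9⟩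

theorem rp_even (i n : ℕ) (σ : Perm (Fin 11)) (a b c d : Fin 11)
    (h : (decide (Perm.sign σ = 1 ∧ 0 < n ∧ [a, b, c, d].Nodup ∧ σ ^ n = swap a b * swap c d ∧ hasOrd σ (n * 2) ∧
      dat.ord i = n * 2 * 2) && okL i σ) = true) : ∃ y, Rp L i σ y := by
  have := fin
  rw [Bool.and_eq_true, decide_eq_true_iff] at h
  obtain ⟨⟨h1, h2, h3, h3', h3'', h4⟩, h5⟩ := h
  obtain ⟨w, h6, h7, h8⟩ := H455.ZerosLy.even_elt L h1 n a b c d h3 h3' (orderOf_of_hasOrd (by omega) h3'')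
  have h9 : w ^ (dat.ord i / 2) = L.K.z := by rw [h4, Nat.mul_div_cancel _ two_pos, h8]
  exact ⟨w, h6, ty_lift L (h7.trans h4.symm) (fun _ => h9) (h6 ▸ h5), h9⟩

variable {L} {i : ℕ} {σ : Perm (Fin 11)} {y : centralizer ({L.t} : Set Spor.Ly)}

theorem Rp.le_two (h : Rp L i σ y) : cc (y : Spor.Ly) ≤ 2 * cS σ.cycleType := by
  rw [cc_eq L h.2.2, ← h.1, ← card_cS]
  exact Nat.le_of_dvd (Nat.mul_pos two_pos Nat.card_pos) (CpAut.Cyc.card_cent_dvd L.K y)

theorem Rp.le_one (h : Rp L i σ y) (ho : HasOdd σ) : cc (y : Spor.Ly) ≤ cS σ.cycleType := by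
  rw [cc_eq L h.2.2, ← h.1, ← card_cS]
  exact Nat.le_of_dvd Nat.card_pos (card_dvd L.K (h.1 ▸ ho))

theorem Rp.le_half (h : Rp L i σ y) (ho : HasOdd σ) {τ ρ : Perm (Fin 11)} (hc : okH σ τ ρ = true) :
    cc (y : Spor.Ly) ≤ cS σ.cycleType / 2 := by
  have := fin
  have h1 := half L.K (h.1 ▸ ho) (h.1 ▸ hc)
  rw [h.1, ← cc_eq L h.2.2] at h1
  omega

theorem Rp.conj (h : Rp L i σ y) {k : ℕ} (hk : k % 2 = 1) (hc : IsConj (y : Spor.Ly) ((y : Spor.Ly) ^ k)) :
    ∃ c, c * y * c⁻¹ = y ^ k := by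
  have := fin
  refine H455.ZerosLy.exists_conj L h.2.2 (y' := y ^ k) ?_ hc
  rw [← pow_mul, mul_comm, pow_mul, h.2.2, L.K.z_pow, if_neg (Nat.not_even_iff_odd.2 (Nat.odd_iff.2 hk))]

/-- `y` is not conjugate to `y z` -/
theorem Rp.not_conj_z (h : Rp L i σ y) (ho : HasOdd σ) (hk : (dat.ord i / 2 + 1) % 2 = 1)
    (hc : cS σ.cycleType < 2 * dat.ord i) : ¬ IsConj (y : Spor.Ly) ((y : Spor.Ly) ^ (dat.ord i / 2 + 1)) := fun e => by
  have := fin
  obtain ⟨c, h1⟩ := h.conj hk e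
  rw [pow_succ', h.2.2, mul_inv_eq_iff_eq_mul] at h1
  have h2 := half_of L.K (r := c) (h.1 ▸ ho) (by rw [← map_mul, h1, map_mul, map_mul, L.K.π_z, mul_one])
    fun e => L.K.mul_z_ne y (mul_right_cancel (h1.symm.trans e))
  rw [h.1, ← cc_eq L h.2.2] at h2
  have h3 : orderOf (y : Spor.Ly) ≤ cc (y : Spor.Ly) :=
    Nat.le_of_dvd (cc_pos _) (Subgroup.orderOf_dvd_natCard _ (mem_centralizer_singleton_iff.2 rfl))
  rw [h.2.1.1] at h3
  omega

theorem not_even_conj {σ τ ρ ρ' : Perm (Fin 11)} (h : ρ * σ * ρ⁻¹ = τ) (h' : ρ' * σ * ρ'⁻¹ = τ)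
    (hs : Perm.sign ρ = -1) (hc : cS σ.cycleType % 2 = 1) : ρ' ∉ alternatingGroup (Fin 11) := fun e => by
  have h1 := card_inf_alternating (σ := σ) ⟨ρ⁻¹ * ρ', by
    rw [mul_assoc, mul_inv_eq_iff_eq_mul.1 h', ← h]
    group, by simp [hs, Perm.mem_alternatingGroup.1 e]⟩
  rw [card_cS] at h1
  omega

/-- the classes which split in the alternating group -/
theorem Rp.not_conj (h : Rp L i σ y) {k : ℕ} (ρ : Perm (Fin 11))
    (hc : k % 2 = 1 ∧ ρ * σ * ρ⁻¹ = σ ^ k ∧ Perm.sign ρ = -1 ∧ cS σ.cycleType % 2 = 1) :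
    ¬ IsConj (y : Spor.Ly) ((y : Spor.Ly) ^ k) := fun e => by
  obtain ⟨c, h1⟩ := h.conj hc.1 e
  refine not_even_conj hc.2.1 (ρ' := L.K.π c) ?_ hc.2.2.1 hc.2.2.2 (L.K.mem_alternating c)
  rw [← h.1, ← map_inv, ← map_mul, ← map_mul, h1, map_pow]

end Cfsg.Agent.TAB.Ly

private theorem dce_87fd2537910f : _root_.True := by
  try have : _root_.True := by simp only [_root_.Cfsg.Agent.TAB.Ly.bigB.eq_1]
  try have : _root_.True := by simp only [_root_.Cfsg.Agent.CpAutLy.Types.nn.eq_1]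
  exact _root_.True.intro
end

-- part: TAB/Ly/Even
section
set_option linter.all false
open scoped Cfsg.Agent.FastGrp

/-!
# The Lyons group : the boxes of the elements of even order (helper57, TAB)
-/

set_option autoImplicit false

namespace Cfsg.Agent.TAB.Ly

open Cfsg Subgroup Equiv Cfsg.Agent.TypeM.Two Cfsg.Agent.CpAutLy.Cov Cfsg.Agent.H710.Spor.Ly

theorem hasOdd_of {σ : Perm (Fin 11)} (ρ : Perm (Fin 11)) (h : ρ * σ = σ * ρ ∧ Perm.sign ρ = -1) : HasOdd σ := ⟨ρ, h⟩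

theorem box0 : BoxL 0 := by
  have := fin
  refine box_one (x := 1) (c := 51765179004000000) (ty_of orderOf_one [] [] (by simp) (by simp) (by decide)) ?_
    (by decide)
  rw [← card]
  exact card_le_card_group _

theorem box1 : BoxL 1 := by
  have := fin
  obtain ⟨L⟩ := TypeM.FactsLy.exists_mt_ly
  obtain ⟨y, h⟩ := rp_odd L 1 1 (1) (by decide +kernel)
  exact box_one h.2.1 (h.le_one (hasOdd_of (swap (0 : Fin 11) 1) (by decide +kernel))) (by decide +kernel)

theorem box7 : BoxL 7 := by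
  have := fin
  obtain ⟨L⟩ := TypeM.FactsLy.exists_mt_ly
  obtain ⟨y, h⟩ := rp_odd L 7 3 (cyc 0 3) (by decide +kernel)
  exact box_one h.2.1 (h.le_one (hasOdd_of (swap (9 : Fin 11) 10) (by decide +kernel))) (by decide +kernel)

theorem box8 : BoxL 8 := by
  have := fin
  obtain ⟨L⟩ := TypeM.FactsLy.exists_mt_ly
  obtain ⟨y, h⟩ := rp_odd L 8 3 (cyc 0 3 * cyc 3 3) (by decide +kernel)
  exact box_one h.2.1 (h.le_one (hasOdd_of (swap (9 : Fin 11) 10) (by decide +kernel))) (by decide +kernel)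

theorem box9 : BoxL 9 := by
  have := fin
  obtain ⟨L⟩ := TypeM.FactsLy.exists_mt_ly
  obtain ⟨y, h⟩ := rp_odd L 9 3 (cyc 0 3 * cyc 3 3 * cyc 6 3) (by decide +kernel)
  exact box_one h.2.1 (h.le_one (hasOdd_of (swap (9 : Fin 11) 10) (by decide +kernel))) (by decide +kernel)

theorem box14 : BoxL 14 := by
  have := fin
  obtain ⟨L⟩ := TypeM.FactsLy.exists_mt_ly
  obtain ⟨y, h⟩ := rp_odd L 14 5 (cyc 0 5) (by (delta Cfsg.Agent.H710.Spor.Ly.hasOrd; set_option synthInstance.maxSize 9000 in open scoped Cfsg.Agent.Lib.FastPerm in (simp only [Cfsg.Agent.Lib.FastPerm.sw_dec, Cfsg.Agent.Lib.FastPerm.sw_ite, Cfsg.Agent.Lib.FastPerm.sw_beq, Cfsg.Agent.Lib.FastPerm.sw_bne]; decide +kernel)))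
  exact box_one h.2.1 (h.le_one (hasOdd_of (swap (9 : Fin 11) 10) (by decide +kernel))) (by decide +kernel)

theorem box15 : BoxL 15 := by
  have := fin
  obtain ⟨L⟩ := TypeM.FactsLy.exists_mt_ly
  obtain ⟨y, h⟩ := rp_odd L 15 5 (cyc 0 5 * cyc 5 5) (by (delta Cfsg.Agent.H710.Spor.Ly.hasOrd; set_option synthInstance.maxSize 9000 in open scoped Cfsg.Agent.Lib.FastPerm in (simp only [Cfsg.Agent.Lib.FastPerm.sw_dec, Cfsg.Agent.Lib.FastPerm.sw_ite, Cfsg.Agent.Lib.FastPerm.sw_beq, Cfsg.Agent.Lib.FastPerm.sw_bne]; decide +kernel)))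
  exact box_one h.2.1 (h.le_one (hasOdd_of (swap (0 : Fin 11) 5 * swap (1 : Fin 11) 6 * swap (2 : Fin 11) 7 * swap (3 : Fin 11) 8 * swap (4 : Fin 11) 9) (by decide +kernel))) (by decide +kernel)

theorem box19 : BoxL 19 := by
  have := fin
  obtain ⟨L⟩ := TypeM.FactsLy.exists_mt_ly
  obtain ⟨y, h⟩ := rp_odd L 19 7 (cyc 0 7) (by (delta Cfsg.Agent.H710.Spor.Ly.hasOrd; set_option synthInstance.maxSize 9000 in open scoped Cfsg.Agent.Lib.FastPerm in (simp only [Cfsg.Agent.Lib.FastPerm.sw_dec, Cfsg.Agent.Lib.FastPerm.sw_ite, Cfsg.Agent.Lib.FastPerm.sw_beq, Cfsg.Agent.Lib.FastPerm.sw_bne]; decide +kernel)))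
  exact box_one h.2.1 (h.le_one (hasOdd_of (swap (9 : Fin 11) 10) (by decide +kernel))) (by decide +kernel)

theorem box23 : BoxL 23 := by
  have := fin
  obtain ⟨L⟩ := TypeM.FactsLy.exists_mt_ly
  obtain ⟨y, h⟩ := rp_odd L 23 9 (cyc 0 9) (by decide +kernel)
  exact box_one h.2.1 (h.le_one (hasOdd_of (swap (9 : Fin 11) 10) (by decide +kernel))) (by decide +kernel)

theorem box31 : BoxL 31 := by
  have := fin
  obtain ⟨L⟩ := TypeM.FactsLy.exists_mt_ly
  obtain ⟨y, h⟩ := rp_odd L 31 15 (cyc 0 5 * cyc 5 3) (by (delta Cfsg.Agent.H710.Spor.Ly.hasOrd; set_option synthInstance.maxSize 9000 in open scoped Cfsg.Agent.Lib.FastPerm in (simp only [Cfsg.Agent.Lib.FastPerm.sw_dec, Cfsg.Agent.Lib.FastPerm.sw_ite, Cfsg.Agent.Lib.FastPerm.sw_beq, Cfsg.Agent.Lib.FastPerm.sw_bne]; decide +kernel)))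
  exact box_one h.2.1 (h.le_one (hasOdd_of (swap (9 : Fin 11) 10) (by decide +kernel))) (by decide +kernel)

theorem box32 : BoxL 32 := by
  have := fin
  obtain ⟨L⟩ := TypeM.FactsLy.exists_mt_ly
  obtain ⟨y, h⟩ := rp_odd L 32 15 (cyc 0 5 * cyc 5 3 * cyc 8 3) (by decide +kernel)
  exact box_one h.2.1 (h.le_one (hasOdd_of (swap (5 : Fin 11) 8 * swap (6 : Fin 11) 9 * swap (7 : Fin 11) 10) (by decide +kernel))) (by decide +kernel)

theorem box26 : BoxL 26 := by
  have := fin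
  obtain ⟨L⟩ := TypeM.FactsLy.exists_mt_ly
  obtain ⟨y, h⟩ := rp_odd L 26 11 (cyc 0 11) (by (delta Cfsg.Agent.H710.Spor.Ly.hasOrd; set_option synthInstance.maxSize 9000 in open scoped Cfsg.Agent.Lib.FastPerm in (simp only [Cfsg.Agent.Lib.FastPerm.sw_dec, Cfsg.Agent.Lib.FastPerm.sw_ite, Cfsg.Agent.Lib.FastPerm.sw_beq, Cfsg.Agent.Lib.FastPerm.sw_bne]; decide +kernel)))
  exact box_two 21 h.2.1 h.le_two (h.not_conj (swap (1 : Fin 11) 10 * swap (2 : Fin 11) 9 * swap (3 : Fin 11) 8 * swap (4 : Fin 11) 7 * swap (5 : Fin 11) 6) (by (set_option synthInstance.maxSize 9000 in open scoped Cfsg.Agent.Lib.FastPerm in decide +kernel))) (by decide +kernel)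

theorem box37 : BoxL 37 := by
  have := fin
  obtain ⟨L⟩ := TypeM.FactsLy.exists_mt_ly
  obtain ⟨y, h⟩ := rp_odd L 37 21 (cyc 0 7 * cyc 7 3) (by (delta Cfsg.Agent.H710.Spor.Ly.hasOrd; set_option synthInstance.maxSize 9000 in open scoped Cfsg.Agent.Lib.FastPerm in (simp only [Cfsg.Agent.Lib.FastPerm.sw_dec, Cfsg.Agent.Lib.FastPerm.sw_ite, Cfsg.Agent.Lib.FastPerm.sw_beq, Cfsg.Agent.Lib.FastPerm.sw_bne]; decide +kernel)))
  exact box_two 29 h.2.1 h.le_two (h.not_conj (swap (7 : Fin 11) 8) (by (set_option synthInstance.maxSize 9000 in open scoped Cfsg.Agent.Lib.FastPerm in decide +kernel))) (by decide +kernel)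

theorem box4 : BoxL 4 := by
  have := fin
  obtain ⟨L⟩ := TypeM.FactsLy.exists_mt_ly
  obtain ⟨y, h⟩ := rp_even L 4 1 (swap (0 : Fin 11) 1 * swap (2 : Fin 11) 3) 0 1 2 3 (by decide +kernel)
  exact box_one h.2.1 (h.le_half (hasOdd_of (swap (0 : Fin 11) 1) (by decide +kernel)) (τ := swap (0 : Fin 11) 1 * swap (2 : Fin 11) 3) (ρ := swap (0 : Fin 11) 2 * swap (1 : Fin 11) 3)
    (by decide +kernel)) (by decide +kernel)

theorem box11 : BoxL 11 := by
  have := fin
  obtain ⟨L⟩ := TypeM.FactsLy.exists_mt_ly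
  obtain ⟨y, h⟩ := rp_even L 11 2 (cyc 0 4 * swap (4 : Fin 11) 5) 0 2 1 3 (by decide +kernel)
  exact box_one h.2.1 (h.le_half (hasOdd_of (swap (4 : Fin 11) 5) (by decide +kernel)) (τ := swap (8 : Fin 11) 9 * swap (4 : Fin 11) 5) (ρ := swap (4 : Fin 11) 5 * swap (6 : Fin 11) 7)
    (by (delta Cfsg.Agent.TAB.Ly.okH; set_option synthInstance.maxSize 9000 in open scoped Cfsg.Agent.Lib.FastPerm in (simp only [Cfsg.Agent.Lib.FastPerm.sw_dec, Cfsg.Agent.Lib.FastPerm.sw_ite, Cfsg.Agent.Lib.FastPerm.sw_beq, Cfsg.Agent.Lib.FastPerm.sw_bne]; decide +kernel)))) (by decide +kernel)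

theorem box12 : BoxL 12 := by
  have := fin
  obtain ⟨L⟩ := TypeM.FactsLy.exists_mt_ly
  obtain ⟨y, h⟩ := rp_even L 12 2 (cyc 0 4 * swap (4 : Fin 11) 5 * swap (6 : Fin 11) 7 * swap (8 : Fin 11) 9) 0 2 1 3 (by decide +kernel)
  exact box_one h.2.1 (h.le_half (hasOdd_of (swap (4 : Fin 11) 5) (by decide +kernel)) (τ := swap (6 : Fin 11) 7 * swap (8 : Fin 11) 9) (ρ := swap (6 : Fin 11) 8 * swap (7 : Fin 11) 9)
    (by (delta Cfsg.Agent.TAB.Ly.okH; set_option synthInstance.maxSize 9000 in open scoped Cfsg.Agent.Lib.FastPerm in (simp only [Cfsg.Agent.Lib.FastPerm.sw_dec, Cfsg.Agent.Lib.FastPerm.sw_ite, Cfsg.Agent.Lib.FastPerm.sw_beq, Cfsg.Agent.Lib.FastPerm.sw_bne]; decide +kernel)))) (by decide +kernel)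

theorem box17 : BoxL 17 := by
  have := fin
  obtain ⟨L⟩ := TypeM.FactsLy.exists_mt_ly
  obtain ⟨y, h⟩ := rp_even L 17 3 (cyc 0 3 * swap (3 : Fin 11) 4 * swap (5 : Fin 11) 6) 3 4 5 6 (by decide +kernel)
  exact box_one h.2.1 (h.le_half (hasOdd_of (swap (3 : Fin 11) 4) (by decide +kernel)) (τ := swap (3 : Fin 11) 4 * swap (5 : Fin 11) 6) (ρ := swap (3 : Fin 11) 5 * swap (4 : Fin 11) 6)
    (by (delta Cfsg.Agent.TAB.Ly.okH; set_option synthInstance.maxSize 9000 in open scoped Cfsg.Agent.Lib.FastPerm in (simp only [Cfsg.Agent.Lib.FastPerm.sw_dec, Cfsg.Agent.Lib.FastPerm.sw_ite, Cfsg.Agent.Lib.FastPerm.sw_beq, Cfsg.Agent.Lib.FastPerm.sw_bne]; decide +kernel)))) (by decide +kernel)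

theorem box18 : BoxL 18 := by
  have := fin
  obtain ⟨L⟩ := TypeM.FactsLy.exists_mt_ly
  obtain ⟨y, h⟩ := rp_even L 18 3 (cyc 0 3 * cyc 3 3 * swap (6 : Fin 11) 7 * swap (8 : Fin 11) 9) 6 7 8 9 (by decide +kernel)
  exact box_one h.2.1 (h.le_half (hasOdd_of (swap (6 : Fin 11) 7) (by decide +kernel)) (τ := swap (6 : Fin 11) 7 * swap (8 : Fin 11) 9) (ρ := swap (6 : Fin 11) 8 * swap (7 : Fin 11) 9)
    (by (delta Cfsg.Agent.TAB.Ly.okH; set_option synthInstance.maxSize 9000 in open scoped Cfsg.Agent.Lib.FastPerm in (simp only [Cfsg.Agent.Lib.FastPerm.sw_dec, Cfsg.Agent.Lib.FastPerm.sw_ite, Cfsg.Agent.Lib.FastPerm.sw_beq, Cfsg.Agent.Lib.FastPerm.sw_bne]; decide +kernel)))) (by decide +kernel)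

theorem box24 : BoxL 24 := by
  have := fin
  obtain ⟨L⟩ := TypeM.FactsLy.exists_mt_ly
  obtain ⟨y, h⟩ := rp_even L 24 5 (cyc 0 5 * swap (5 : Fin 11) 6 * swap (7 : Fin 11) 8) 5 6 7 8 (by (delta Cfsg.Agent.H710.Spor.Ly.hasOrd; set_option synthInstance.maxSize 9000 in open scoped Cfsg.Agent.Lib.FastPerm in (simp only [Cfsg.Agent.Lib.FastPerm.sw_dec, Cfsg.Agent.Lib.FastPerm.sw_ite, Cfsg.Agent.Lib.FastPerm.sw_beq, Cfsg.Agent.Lib.FastPerm.sw_bne]; decide +kernel)))
  exact box_one h.2.1 (h.le_half (hasOdd_of (swap (5 : Fin 11) 6) (by decide +kernel)) (τ := swap (5 : Fin 11) 6 * swap (7 : Fin 11) 8) (ρ := swap (5 : Fin 11) 7 * swap (6 : Fin 11) 8)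
    (by (delta Cfsg.Agent.TAB.Ly.okH; set_option synthInstance.maxSize 9000 in open scoped Cfsg.Agent.Lib.FastPerm in (simp only [Cfsg.Agent.Lib.FastPerm.sw_dec, Cfsg.Agent.Lib.FastPerm.sw_ite, Cfsg.Agent.Lib.FastPerm.sw_beq, Cfsg.Agent.Lib.FastPerm.sw_bne]; decide +kernel)))) (by decide +kernel)

theorem box27 : BoxL 27 := by
  have := fin
  obtain ⟨L⟩ := TypeM.FactsLy.exists_mt_ly
  obtain ⟨y, h⟩ := rp_even L 27 6 (cyc 0 4 * cyc 4 3 * swap (7 : Fin 11) 8) 0 2 1 3 (by (delta Cfsg.Agent.H710.Spor.Ly.hasOrd; set_option synthInstance.maxSize 9000 in open scoped Cfsg.Agent.Lib.FastPerm in (simp only [Cfsg.Agent.Lib.FastPerm.sw_dec, Cfsg.Agent.Lib.FastPerm.sw_ite, Cfsg.Agent.Lib.FastPerm.sw_beq, Cfsg.Agent.Lib.FastPerm.sw_bne]; decide +kernel)))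
  exact box_one h.2.1 (h.le_half (hasOdd_of (swap (7 : Fin 11) 8) (by decide +kernel)) (τ := swap (0 : Fin 11) 1 * swap (7 : Fin 11) 8) (ρ := swap (7 : Fin 11) 8 * swap (9 : Fin 11) 10)
    (by (delta Cfsg.Agent.TAB.Ly.okH; set_option synthInstance.maxSize 9000 in open scoped Cfsg.Agent.Lib.FastPerm in (simp only [Cfsg.Agent.Lib.FastPerm.sw_dec, Cfsg.Agent.Lib.FastPerm.sw_ite, Cfsg.Agent.Lib.FastPerm.sw_beq, Cfsg.Agent.Lib.FastPerm.sw_bne]; decide +kernel)))) (by decide +kernel)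

theorem box30 : BoxL 30 := by
  have := fin
  obtain ⟨L⟩ := TypeM.FactsLy.exists_mt_ly
  obtain ⟨y, h⟩ := rp_even L 30 7 (cyc 0 7 * swap (7 : Fin 11) 8 * swap (9 : Fin 11) 10) 7 8 9 10 (by (delta Cfsg.Agent.H710.Spor.Ly.hasOrd; set_option synthInstance.maxSize 9000 in open scoped Cfsg.Agent.Lib.FastPerm in (simp only [Cfsg.Agent.Lib.FastPerm.sw_dec, Cfsg.Agent.Lib.FastPerm.sw_ite, Cfsg.Agent.Lib.FastPerm.sw_beq, Cfsg.Agent.Lib.FastPerm.sw_bne]; decide +kernel)))
  exact box_one h.2.1 (h.le_half (hasOdd_of (swap (7 : Fin 11) 8) (by decide +kernel)) (τ := swap (7 : Fin 11) 8 * swap (9 : Fin 11) 10) (ρ := swap (7 : Fin 11) 9 * swap (8 : Fin 11) 10)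
    (by (delta Cfsg.Agent.TAB.Ly.okH; set_option synthInstance.maxSize 9000 in open scoped Cfsg.Agent.Lib.FastPerm in (simp only [Cfsg.Agent.Lib.FastPerm.sw_dec, Cfsg.Agent.Lib.FastPerm.sw_ite, Cfsg.Agent.Lib.FastPerm.sw_beq, Cfsg.Agent.Lib.FastPerm.sw_bne]; decide +kernel)))) (by decide +kernel)

theorem box28 : BoxL 28 := by
  have := fin
  obtain ⟨L⟩ := TypeM.FactsLy.exists_mt_ly
  obtain ⟨y, h⟩ := rp_even L 28 6 (cyc 0 4 * cyc 4 6) 0 2 1 3 (by decide +kernel)
  have ho : HasOdd (cyc 0 4 * cyc 4 6) := hasOdd_of (cyc 0 4) (by decide +kernel)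
  exact box_two _ h.2.1 (h.le_one ho) (h.not_conj_z ho (by decide) (by decide +kernel)) (by decide +kernel)

theorem box36 : BoxL 36 := by
  have := fin
  obtain ⟨L⟩ := TypeM.FactsLy.exists_mt_ly
  obtain ⟨y, h⟩ := rp_even L 36 10 (cyc 0 4 * cyc 4 5 * swap (9 : Fin 11) 10) 0 2 1 3 (by (delta Cfsg.Agent.H710.Spor.Ly.hasOrd; set_option synthInstance.maxSize 9000 in open scoped Cfsg.Agent.Lib.FastPerm in (simp only [Cfsg.Agent.Lib.FastPerm.sw_dec, Cfsg.Agent.Lib.FastPerm.sw_ite, Cfsg.Agent.Lib.FastPerm.sw_beq, Cfsg.Agent.Lib.FastPerm.sw_bne]; decide +kernel)))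
  have ho : HasOdd (cyc 0 4 * cyc 4 5 * swap (9 : Fin 11) 10) := hasOdd_of (swap (9 : Fin 11) 10) (by decide +kernel)
  exact box_two _ h.2.1 (h.le_one ho) (h.not_conj_z ho (by decide) (by decide +kernel)) (by decide +kernel)

end Cfsg.Agent.TAB.Ly
end

-- part: TAB/Ly/Six
section
set_option linter.all false
open scoped Cfsg.Agent.FastGrp

/-!
# The involutions of `2.A₁₁` commuting with an element of type `3 ^ 2` or `3 ^ 3` (helper57, TAB)

* `conj_two` : they are conjugate under the centralizer for the type `3 ^ 2`;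
* `card_three` : there are at most 18 of them for the type `3 ^ 3`.
-/

set_option autoImplicit false

namespace Cfsg.Agent.TAB.Ly

open Cfsg Subgroup Equiv Cfsg.Agent.SporRec.TwoAn Cfsg.Agent.CpAutLy.Cov Cfsg.Agent.CpAutLy.Types
open Cfsg.Agent.H710.Spor.Ly Cfsg.Agent.CpAutLy Cfsg.Agent.TAB.Eng

theorem type_pow {σ τ : Perm (Fin 11)} (h : σ.cycleType = τ.cycleType) (k : ℕ) :
    (σ ^ k).cycleType = (τ ^ k).cycleType :=
  Perm.isConj_iff_cycleType_eq.1 ((Perm.isConj_iff_cycleType_eq.2 h).pow k)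

/-- an element of type `6 2` -/
def g62 : Perm (Fin 11) := cyc 0 6 * swap 6 7

/-- an element of type `6 3 2` -/
def g632 : Perm (Fin 11) := cyc 0 6 * cyc 6 3 * swap 9 10

/-- the anticommuting element -/
def r62 : Perm (Fin 11) := swap 6 7 * swap 8 9

theorem t62 : g62.cycleType = {6, 2} ∧ (g62 ^ 4).cycleType = {3, 3} := by decide +kernel

theorem t632 : g632.cycleType = {6, 3, 2} ∧ (g632 ^ 4).cycleType = {3, 3, 3} := by decide +kernel

theorem r62_spec : Perm.sign r62 = 1 ∧ r62 * g62 = g62 * r62 ∧ r62 * r62 = 1 ∧ r62.support.card = 4 * 1 ∧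
    (r62 * g62 ^ 3).support.card = 4 * 2 := by decide +kernel

theorem no45 {σ : Perm (Fin 11)} : orderOf σ ≠ 45 := fun h => by
  have h1 : ∀ n ∈ σ.cycleType, n = 3 ∨ n = 5 ∨ n = 9 := fun n hn => by
    have h2 := Perm.dvd_of_mem_cycleType hn
    have h3 := Perm.two_le_of_mem_cycleType hn
    have h4 := (Multiset.single_le_sum (fun _ _ => Nat.zero_le _) n hn).trans σ.sum_cycleType_le
    rw [h] at h2
    rw [Fintype.card_fin] at h4
    interval_cases n <;> simp at h2 ⊢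
  have h9 : 9 ∈ σ.cycleType := by
    by_contra h2
    have h3 : σ.cycleType.lcm ∣ 15 := Multiset.lcm_dvd.2 fun n hn => by
      rcases h1 n hn with rfl | rfl | rfl
      exacts [by decide, by decide, absurd hn h2]
    rw [Perm.lcm_cycleType, h] at h3
    omega
  have h5 : 5 ∈ σ.cycleType := by
    by_contra h2
    have h3 : σ.cycleType.lcm ∣ 9 := Multiset.lcm_dvd.2 fun n hn => by
      rcases h1 n hn with rfl | rfl | rfl
      exacts [by decide, absurd hn h2, by decide]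
    rw [Perm.lcm_cycleType, h] at h3
    omega
  have h2 := σ.sum_cycleType_le
  rw [← Multiset.cons_erase h9, Multiset.sum_cons, Fintype.card_fin] at h2
  have h3 := Multiset.single_le_sum (fun _ _ => Nat.zero_le _) 5 ((Multiset.mem_erase_of_ne (b := 9) (by decide)).2 h5)
  omega

variable {C : Type*} [Group C] (K : Cover (Fin 11) C)

include K in
theorem no45' {w : C} : orderOf w ≠ 45 := fun h => by
  refine no45 (σ := K.π w) ((orderOf_eq_iff (by decide)).2 ⟨by rw [← map_pow, ← h, pow_orderOf_eq_one, map_one],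
    fun m h1 h2 => ?_⟩)
  rw [← map_pow]
  refine π_ne_one K (n := 45) (by decide) (by rw [← pow_mul, mul_comm, pow_mul, ← h, pow_orderOf_eq_one, one_pow])
    (pow_ne_one_of_lt_orderOf h2.ne' (h ▸ h1))

/-- the involutions different from `z` commuting with `x` -/
structure Inv (x s : C) : Prop where
  sq : s * s = 1
  ne : s ≠ 1
  nz : s ≠ K.z
  comm : s * x = x * s

variable {K} {x s s' : C}

theorem Inv.cube (h : Inv K x s) (hx : x ^ 3 = 1) : (x * s) ^ 3 = s := by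
  rw [(show Commute x s from h.comm.symm).mul_pow, hx, one_mul, pow_three, h.sq, mul_one]

theorem Inv.four (h : Inv K x s) (hx : x ^ 3 = 1) : (x * s) ^ 4 = x := by
  rw [pow_succ', h.cube hx, mul_assoc, h.sq, mul_one]

theorem Inv.six (h : Inv K x s) (hx : x ^ 3 = 1) (hcx : 6 ≤ (K.π x).support.card) :
    (K.π (x * s)).cycleType = {6, 2} ∨ (K.π (x * s)).cycleType = {6, 3, 2} := by
  have h8 : 8 ∣ (K.π s).support.card := (K.sq_eq_one_iff.1 h.sq).2
  have hcs : 8 ≤ (K.π s).support.card := Nat.le_of_dvd (Nat.pos_of_ne_zero fun e =>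
    ((K.ker s).1 (Perm.card_support_eq_zero.1 e)).elim h.ne h.nz) h8
  obtain ⟨i, hi⟩ : ((K.π s).support ∩ (K.π x).support).Nonempty := by
    rw [← Finset.card_pos]
    have h1 := Finset.card_union_add_card_inter (K.π s).support (K.π x).support
    have h2 : ((K.π s).support ∪ (K.π x).support).card ≤ 11 := (Finset.card_le_univ _).trans (by simp)
    omega
  rw [Finset.mem_inter, Perm.mem_support, Perm.mem_support] at hi
  refine six_cases (by rw [← map_pow, show (6 : ℕ) = 3 * 2 by norm_num, pow_mul, h.cube hx, pow_two, h.sq, map_one])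
    (K.mem_alternating _) (i := i) (fun e => hi.2 ?_) (by rw [← map_pow, h.cube hx]; exact hi.1)
  rw [← h.four hx, map_pow, show (4 : ℕ) = 2 + 2 by norm_num, pow_add, Perm.mul_apply, e, e]

theorem Inv.six_two (h : Inv K x s) (hx : x ^ 3 = 1) (ht : (K.π x).cycleType = {3, 3}) :
    (K.π (x * s)).cycleType = {6, 2} := by
  refine (h.six hx (by rw [← Perm.sum_cycleType, ht]; decide)).resolve_right fun e => ?_
  have h1 := type_pow (e.trans t632.1.symm) 4
  rw [← map_pow, h.four hx, ht, t632.2] at h1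
  exact absurd h1 (by decide)

theorem Inv.six_three (h : Inv K x s) (hx : x ^ 3 = 1) (ht : (K.π x).cycleType = {3, 3, 3}) :
    (K.π (x * s)).cycleType = {6, 3, 2} := by
  refine (h.six hx (by rw [← Perm.sum_cycleType, ht]; decide)).resolve_left fun e => ?_
  have h1 := type_pow (e.trans t62.1.symm) 4
  rw [← map_pow, h.four hx, ht, t62.2] at h1
  exact absurd h1 (by decide)

theorem Inv.anti (h : Inv K x s) (hx : x ^ 3 = 1) (ht : (K.π x).cycleType = {3, 3}) :
    ∃ r, r * x = x * r ∧ r * s * r⁻¹ = s * K.z := by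
  obtain ⟨η, hη⟩ := isConj_iff.1 (Perm.isConj_iff_cycleType_eq.2 (t62.1.trans (h.six_two hx ht).symm))
  obtain ⟨h1, h2, h3, h4, h5⟩ := r62_spec
  obtain ⟨r, hr⟩ := K.exists_lift (σ := η * r62 * η⁻¹) (Perm.mem_alternatingGroup.2 (by simp [h1, mul_assoc]))
  have h6 : Commute (K.π r) (K.π (x * s)) := by
    rw [hr, ← hη]
    exact McLThree.conj_comm η h2
  have h7 : K.π r * K.π s = K.π s * K.π r := by
    rw [← h.cube hx, map_pow]
    exact h6.pow_right 3
  refine ⟨r, (K.commute_of_odd (n := 3) (by decide) hx ?_).symm, ?_⟩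
  · rw [← h.four hx, map_pow]
    exact (h6.pow_right 4).symm
  · have e1 : K.π r * K.π r = 1 := by rw [hr, conj_mul, h3, mul_one, mul_inv_cancel]
    have e2 := K.sq_eq e1 (k := 1) (by rw [hr, Perm.card_support_conj, h4])
    have e3 := K.sq_eq (g := r * s) (k := 2) (by
      rw [map_mul, mul_assoc, ← mul_assoc (K.π s), ← h7, mul_assoc, ← map_mul K.π s, h.sq, map_one, mul_one, e1]) (by
      rw [map_mul, ← h.cube hx, map_pow, hr, ← hη, conj_pow, conj_mul, Perm.card_support_conj, h5])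
    rcases K.comm_or h7 with e | e
    · rw [mul_assoc, ← mul_assoc s, ← e, mul_assoc, h.sq, mul_one, e2, pow_one, K.z_pow_two] at e3
      exact absurd e3 K.z_ne
    · rw [e, mul_assoc s, K.z_comm, ← mul_assoc, mul_inv_cancel_right]

/-- **the type `3 ^ 2`** -/
theorem conj_two (h : Inv K x s) (h' : Inv K x s') (hx : x ^ 3 = 1) (ht : (K.π x).cycleType = {3, 3}) :
    ∃ c, c * x = x * c ∧ c * s * c⁻¹ = s' := by
  obtain ⟨ρ, h1, h2⟩ := CpAut.Cyc.exists_even_conj ((h.six_two hx ht).trans (h'.six_two hx ht).symm)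
    (by rw [← Perm.sum_cycleType, h.six_two hx ht]; decide)
  obtain ⟨c, rfl⟩ := K.exists_lift h1
  have h3 : c * x = x * c := by
    refine (K.commute_of_odd (n := 3) (by decide) hx (mul_inv_eq_iff_eq_mul.1 ?_).symm).symm
    nth_rewrite 1 [← h.four hx]
    rw [map_pow, ← conj_pow, h2, ← map_pow, h'.four hx]
  have h4 : K.π (c * s * c⁻¹) = K.π s' := by
    rw [← h.cube hx, ← h'.cube hx, map_mul, map_mul, map_inv, map_pow, ← conj_pow, h2, map_pow]
  rcases K.lift_eq h4 with e | e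
  · exact ⟨c, h3, e⟩
  · obtain ⟨r, h5, h6⟩ := h'.anti hx ht
    refine ⟨r⁻¹ * c, (Commute.mul_left (Commute.inv_left h5) h3 :), ?_⟩
    rw [← h6] at e
    rw [mul_assoc, mul_assoc, mul_inv_rev, ← mul_assoc s, ← mul_assoc c, ← mul_assoc c, e]
    group

theorem card_fib {σ : Perm (Fin 11)} (h : σ.cycleType = {3, 3, 3}) :
    Nat.card {g : Perm (Fin 11) // g.cycleType = {6, 3, 2} ∧ g ^ 4 = σ} ≤ 9 := by
  have h1 := Eng.card_fib (Q := fun g : Perm (Fin 11) => g.cycleType = {6, 3, 2})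
    (fun g c hg => Perm.cycleType_conj.trans hg) σ 4
  have h2 := card_class σ
  have h3 := card_class g632
  rw [card_cS, h, show cS {3, 3, 3} = 324 by decide] at h2
  rw [card_cS, t632.1, show cS {6, 3, 2} = 36 by decide] at h3
  have h4 : Nat.card {g : Perm (Fin 11) // g.cycleType = {6, 3, 2} ∧ IsConj σ (g ^ 4)} ≤
      Nat.card {g : Perm (Fin 11) // IsConj g632 g} :=
    Nat.card_le_card_of_injective (fun g => ⟨g.1, Perm.isConj_iff_cycleType_eq.2 (t632.1.trans g.2.1.symm)⟩)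
      fun a b hab => Subtype.ext (congrArg Subtype.val hab :)
  have h5 : Nonempty {g : Perm (Fin 11) // IsConj σ g} := ⟨⟨σ, IsConj.refl σ⟩⟩
  refine Nat.le_of_mul_le_mul_left ?_ (Nat.card_pos (α := {g : Perm (Fin 11) // IsConj σ g}))
  omega

/-- **the type `3 ^ 3`** -/
theorem card_inv (hx : x ^ 3 = 1) (ht : (K.π x).cycleType = {3, 3, 3}) : Nat.card {s // Inv K x s} ≤ 18 := by
  classical
  let l : Perm (Fin 11) → C := Function.invFun K.π
  have hl : ∀ y, K.π (l (K.π y)) = K.π y := fun y => Function.invFun_eq ⟨y, rfl⟩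
  refine (Nat.card_le_card_of_injective (β := {g : Perm (Fin 11) // g.cycleType = {6, 3, 2} ∧ g ^ 4 = K.π x} × Prop)
    (fun s : {s // Inv K x s} => (⟨K.π (x * s), s.2.six_three hx ht, by rw [← map_pow, s.2.four hx]⟩, x * s = l (K.π (x * s))))
    fun a b hab => Subtype.ext (mul_left_cancel (a := x) ?_)).trans ?_
  · have h1 : K.π (x * a) = K.π (x * b) := congrArg (fun p => p.1.1) hab
    have h2 : (x * a = l (K.π (x * a))) = (x * b = l (K.π (x * b))) := congrArg Prod.snd hab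
    rw [h1] at h2
    by_cases h3 : x * b = l (K.π (x * b))
    · exact (h2 ▸ h3).trans h3.symm
    · exact ((K.lift_eq (h1.trans (hl _).symm)).resolve_left (h2 ▸ h3)).trans
        ((K.lift_eq (hl _).symm).resolve_left h3).symm
  · have h1 := card_fib ht
    rw [Nat.card_prod, Nat.card_eq_fintype_card (α := Prop), Fintype.card_prop]
    omega

end Cfsg.Agent.TAB.Ly
end

-- part: TAB/Ly/Syl
section
set_option linter.all false
open scoped Cfsg.Agent.FastGrp

/-!
# The Lyons group : computations in a Sylow 3-subgroup (helper57, TAB)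

* `cent_nine` : `3 ^ 4` does not divide the order of the centralizer of an element of order 9;
* `exists_fuse` : commuting elements `a` (of type `3A`) and `y` with `y ~ y a ~ y a ^ 2`.
-/

set_option autoImplicit false
set_option maxRecDepth 100000

namespace Cfsg.Agent.TAB.Ly

open Cfsg Subgroup Cfsg.Agent.H51.Rad3.Ly Cfsg.Agent.H51.Rad3.Vec Cfsg.Agent.H582.Ly
open Cfsg.Agent.H51.LyThree (e u v g mem_e e1_ne u_ne_one)

/-- the element with the code `n` -/
def ev (n : ℕ) : Spor.Ly := el e 5 (vec n)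

/-- the sum of codes -/
def ad (m n : ℕ) : ℕ := code fun k => vec m k + vec n k

/-- the elements of `U` -/
def bb (i j : ℕ) : Spor.Ly := u ^ i * v ^ j

/-- the action of `bb i j` -/
def sb (i j n : ℕ) : ℕ := (stepM tv)^[j] ((stepM tu)^[i] n)

/-- the commutator -/
def dd (i j n : ℕ) : ℕ := ad (sb i j n) (ad n n)

/-- the cube -/
def nr (i j n : ℕ) : ℕ := ad (ad (sb i j (sb i j n)) (sb i j n)) n

/-- data -/
def dT : List ℕ :=
  [0x0,
  0x40800f0ebef77787cd5d0d45c5d613a3e369293971f231bbab5b9040800f0ebef77787cd5d0d45c5d613a3e369293971f231bbab5b9040800f0ebef77787cd5d0d45c5d613a3e369293971f231bbab5b9bab5b99293971f231b77787c040800f0ebef3a3e36d5d0d45c5d61bab5b99293971f231b77787c040800f0ebef3a3e36d5d0d45c5d61bab5b99293971f231b77787c040800f0ebef3a3e36d5d0d45c5d615c5d613a3e36d5d0d41f231bbab5b9929397f0ebef77787c0408005c5d613a3e36d5d0d41f231bbab5b9929397f0ebef77787c0408005c5d613a3e36d5d0d41f231bbab5b9929397f0ebef77787c040800,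
  0x77eb0078ef047cf00893b91f97ba2392b51b61d53e5cd0365dd43a77eb0078ef047cf00893b91f97ba2392b51b61d53e5cd0365dd43a77eb0078ef047cf00893b91f97ba2392b51b61d53e5cd0365dd43a5dd43a61d53e5cd0367cf00877eb0078ef0492b51b93b91f97ba235dd43a61d53e5cd0367cf00877eb0078ef0492b51b93b91f97ba235dd43a61d53e5cd0367cf00877eb0078ef0492b51b93b91f97ba2397ba2392b51b93b91f5cd0365dd43a61d53e78ef047cf00877eb0097ba2392b51b93b91f5cd0365dd43a61d53e78ef047cf00877eb0097ba2392b51b93b91f5cd0365dd43a61d53e78ef047cf00877eb00,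
  0xa1ca005dda346dba441b6be54f78a40e88d5af3686bf1993f02952a1ca005dda346dba441b6be54f78a40e88d5af3686bf1993f02952a1ca005dda346dba441b6be54f78a40e88d5af3686bf1993f02952f02952af3686bf19936dba44a1ca005dda340e88d51b6be54f78a4f02952af3686bf19936dba44a1ca005dda340e88d51b6be54f78a4f02952af3686bf19936dba44a1ca005dda340e88d51b6be54f78a44f78a40e88d51b6be5bf1993f02952af36865dda346dba44a1ca004f78a40e88d51b6be5bf1993f02952af36865dda346dba44a1ca004f78a40e88d51b6be5bf1993f02952af36865dda346dba44a1ca00,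
  0x453000362a154b1b0ff0c0abe1d5a5dbc6ba8d786399725d937e57453000362a154b1b0ff0c0abe1d5a5dbc6ba8d786399725d937e57453000362a154b1b0ff0c0abe1d5a5dbc6ba8d786399725d937e57937e578d786399725d4b1b0f453000362a15dbc6baf0c0abe1d5a5937e578d786399725d4b1b0f453000362a15dbc6baf0c0abe1d5a5937e578d786399725d4b1b0f453000362a15dbc6baf0c0abe1d5a5e1d5a5dbc6baf0c0ab99725d937e578d7863362a154b1b0f453000e1d5a5dbc6baf0c0ab99725d937e578d7863362a154b1b0f453000e1d5a5dbc6baf0c0ab99725d937e578d7863362a154b1b0f453000,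
  0xa1400d5c4ce8c939d5d67562f1b25dfe9f0b3baa982717836404a0a1400d5c4ce8c939d5d67562f1b25dfe9f0b3baa982717836404a0a1400d5c4ce8c939d5d67562f1b25dfe9f0b3baa982717836404a36404ab3baa98271788c939d0a1400d5c4cedfe9f05d67562f1b2536404ab3baa98271788c939d0a1400d5c4cedfe9f05d67562f1b2536404ab3baa98271788c939d0a1400d5c4cedfe9f05d67562f1b252f1b25dfe9f05d675682717836404ab3baa9d5c4ce8c939d0a14002f1b25dfe9f05d675682717836404ab3baa9d5c4ce8c939d0a14002f1b25dfe9f05d675682717836404ab3baa9d5c4ce8c939d0a1400,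
  0x52a400ba196b0e5daf3688daa1f04fe54493bf1b6d3486d578ca2952a400ba196b0e5daf3688daa1f04fe54493bf1b6d3486d578ca2952a400ba196b0e5daf3688daa1f04fe54493bf1b6d3486d578ca2978ca29bf1b6d3486d50e5daf52a400ba196be544933688daa1f04f78ca29bf1b6d3486d50e5daf52a400ba196be544933688daa1f04f78ca29bf1b6d3486d50e5daf52a400ba196be544933688daa1f04fa1f04fe544933688da3486d578ca29bf1b6dba196b0e5daf52a400a1f04fe544933688da3486d578ca29bf1b6dba196b0e5daf52a400a1f04fe544933688da3486d578ca29bf1b6dba196b0e5daf52a400,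
  0xb36700934adf25d571ba560a9d36e92fc478a95d148c40f01bce82b36700934adf25d571ba560a9d36e92fc478a95d148c40f01bce82b36700934adf25d571ba560a9d36e92fc478a95d148c40f01bce821bce82a95d148c40f025d571b36700934adf2fc478ba560a9d36e91bce82a95d148c40f025d571b36700934adf2fc478ba560a9d36e91bce82a95d148c40f025d571b36700934adf2fc478ba560a9d36e99d36e92fc478ba560a8c40f01bce82a95d14934adf25d571b367009d36e92fc478ba560a8c40f01bce82a95d14934adf25d571b367009d36e92fc478ba560a8c40f01bce82a95d14934adf25d571b36700,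
  0x72db001b8da5c0365778e10f2a93abc6455d7ef0153099bad54b6372db001b8da5c0365778e10f2a93abc6455d7ef0153099bad54b6372db001b8da5c0365778e10f2a93abc6455d7ef0153099bad54b63d54b637ef0153099bac0365772db001b8da5c6455d78e10f2a93abd54b637ef0153099bac0365772db001b8da5c6455d78e10f2a93abd54b637ef0153099bac0365772db001b8da5c6455d78e10f2a93ab2a93abc6455d78e10f3099bad54b637ef0151b8da5c0365772db002a93abc6455d78e10f3099bad54b637ef0151b8da5c0365772db002a93abc6455d78e10f3099bad54b637ef0151b8da5c0365772db00]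

/-- data -/
def zT : List ℕ :=
  [0x7ffffffffffffffffffffffffffffffffffffffffffffffffffffffffffff,
  0x18a228c31445186288a32228c31445186288a30c48c31445186288a30c511,
  0x18a228c31445186288a32228c31445186288a30c48c31445186288a30c511,
  0x18a228c31445186288a32228c31445186288a30c48c31445186288a30c511,
  0x18a228c31445186288a32228c31445186288a30c48c31445186288a30c511,
  0x18a228c31445186288a32228c31445186288a30c48c31445186288a30c511,
  0x18a228c31445186288a32228c31445186288a30c48c31445186288a30c511,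
  0x18a228c31445186288a32228c31445186288a30c48c31445186288a30c511,
  0x18a228c31445186288a32228c31445186288a30c48c31445186288a30c511]

/-- data -/
def mT : List ℕ :=
  [0x1,
  0x188000031000006200000008c000011800002300000004440000888000111,
  0x188000031000006200000008c000011800002300000004440000888000111,
  0x100200420040084008012000801400100280020048010005002000a004001,
  0x1000208200041040008200208200041040008208008200041040008208001,
  0x1020080204010040802002008100401020080204004010040802008100401,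
  0x100200420040084008012000801400100280020048010005002000a004001,
  0x1020080204010040802002008100401020080204004010040802008100401,
  0x1000208200041040008200208200041040008208008200041040008208001]

/-- the table of `dd` -/
def dt (i j n : ℕ) : ℕ := Nat.shiftRight (dT.getD (3 * i + j) 0) (8 * n) % 256

private noncomputable def _root_.Cfsg.Agent.KO7931264.k0 : type_of% @Decidable.decide := @(fun x0 x1 => @Decidable.rec.{1} _ @(fun x2 => @Bool) @(fun x2 => @Bool.false) @(fun x2 => @Bool.true) @x1)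
private theorem _root_.Cfsg.Agent.KO7931264.e0 : @Decidable.decide = @_root_.Cfsg.Agent.KO7931264.k0 := by delta _root_.Cfsg.Agent.KO7931264.k0; rfl'
private noncomputable def _root_.Cfsg.Agent.KO7931264.k1l (n : Nat) (P : ∀ k, k < n → Prop) (H : ∀ k h, Decidable (P k h)) (m : Nat) : m ≤ n → Bool := @Nat.rec (fun m => m ≤ n → Bool) (fun _ => true) (fun k ih h => @Decidable.rec (P k h) (fun _ => Bool) (fun _ => false) (fun _ => ih (Nat.le_of_succ_le h)) (H k h)) m
private theorem _root_.Cfsg.Agent.KO7931264.k1ls (n : Nat) (P : ∀ k, k < n → Prop) (H : ∀ k h, Decidable (P k h)) (m : Nat) : ∀ h : m ≤ n, _root_.Cfsg.Agent.KO7931264.k1l n P H m h = true ↔ ∀ k (g : k < m), P k (Nat.lt_of_lt_of_le g h) := by induction m with | zero => exact fun _ => ⟨fun _ _ g => absurd g (Nat.not_lt_zero _), fun _ => rfl⟩ | succ m ih => intro h; show @Decidable.rec (P m h) (fun _ => Bool) (fun _ => false) (fun _ => _root_.Cfsg.Agent.KO7931264.k1l n P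 H m (Nat.le_of_succ_le h)) (H m h) = true ↔ _; cases H m h with | isFalse q => exact ⟨fun g => absurd g Bool.false_ne_true, fun g => absurd (g m (Nat.lt_succ_self m)) q⟩ | isTrue q => exact ⟨fun g k hk => (Nat.lt_succ_iff_lt_or_eq.1 hk).elim ((ih _).1 g k) fun e => by subst e; exact q, fun g => (ih _).2 fun k hk => g k (Nat.lt_succ_of_lt hk)⟩
private noncomputable def _root_.Cfsg.Agent.KO7931264.k1 (n : Nat) (P : ∀ k, k < n → Prop) (H : ∀ k h, Decidable (P k h)) : Decidable (∀ k h, P k h) := @Bool.rec (fun b => _root_.Cfsg.Agent.KO7931264.k1l n P H n (Nat.le_refl n) = b → Decidable (∀ k h, P k h)) (fun g => isFalse fun q => Bool.false_ne_true (g.symm.trans ((_root_.Cfsg.Agent.KO7931264.k1ls n P H n _).2 fun k h => q k h))) (fun g => isTrue fun k h => (_root_.Cfsg.Agent.KO7931264.k1ls n P H n _).1 g k h) (_root_.Cfsg.Agent.KO7931264.k1l n P H n (Nat.le_refl n)) rfl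
private theorem _root_.Cfsg.Agent.KO7931264.e1 : @Nat.decidableBallLT = @_root_.Cfsg.Agent.KO7931264.k1 := funext fun _ => funext fun _ => funext fun _ => Subsingleton.elim _ _
private noncomputable def _root_.Cfsg.Agent.KO7931264.k2 : type_of% @Nat.decEq := @(fun x0 x1 => @Bool.rec.{1} @(fun x2 => (@Eq.{1} _ (@Nat.beq @x0 @x1) @x2) → @Decidable (@Eq.{1} _ @x0 @x1)) @(fun x2 => @Decidable.isFalse _ (@Nat.ne_of_beq_eq_false _ _ @x2)) @(fun x2 => @Decidable.isTrue _ (@Nat.eq_of_beq_eq_true _ _ @x2)) (@Nat.beq @x0 @x1) (@Eq.refl.{1} _ (@Nat.beq @x0 @x1)))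
private theorem _root_.Cfsg.Agent.KO7931264.e2 : @Nat.decEq = @_root_.Cfsg.Agent.KO7931264.k2 := by delta _root_.Cfsg.Agent.KO7931264.k2; rfl'
private noncomputable def _root_.Cfsg.Agent.KO7931264.k3 : type_of% @instDecidableEqNat := @Cfsg.Agent.KO7931264.k2
private theorem _root_.Cfsg.Agent.KO7931264.e3 : @instDecidableEqNat = @_root_.Cfsg.Agent.KO7931264.k3 := by delta _root_.Cfsg.Agent.KO7931264.k3; rewrite [← Cfsg.Agent.KO7931264.e2]; rfl'
private noncomputable def _root_.Cfsg.Agent.KO7931264.k4 : (by first | exact type_of% @Cfsg.Agent.H51.Rad3.Vec.code | exact Unit : Sort _) := by first | (refine @Subtype.val _ (fun g => @Cfsg.Agent.H51.Rad3.Vec.code = @g) (@Subtype.mk _ _ (@(fun x0 => @Nat.add (@Nat.add (@Nat.add (@Nat.add (@Nat.mod (@x0 (nat_lit 0)) (nat_lit 3)) (@Nat.mul (nat_lit 3) (@Nat.mod (@x0 (nat_lit 1)) (nat_lit 3)))) (@Nat.mul (nat_lit 9) (@Nat.mod (@x0 (nat_lit 2)) (nat_lit 3)))) (@Nat.mul (nat_lit 27) (@Nat.mod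 (@x0 (nat_lit 3)) (nat_lit 3)))) (@Nat.mul (nat_lit 81) (@Nat.mod (@x0 (nat_lit 4)) (nat_lit 3))))) ?_); rfl') | exact @Cfsg.Agent.H51.Rad3.Vec.code | exact ()
private theorem _root_.Cfsg.Agent.KO7931264.e4 : (by first | exact @Cfsg.Agent.H51.Rad3.Vec.code = @_root_.Cfsg.Agent.KO7931264.k4 | exact True : Prop) := by first | (delta _root_.Cfsg.Agent.KO7931264.k4; exact @Subtype.property _ (fun g => @Cfsg.Agent.H51.Rad3.Vec.code = @g) _) | rfl | trivial
private noncomputable def _root_.Cfsg.Agent.KO7931264.k5 : (by first | exact type_of% @Cfsg.Agent.H51.Rad3.Vec.vec | exact Unit : Sort _) := by first | (refine @Subtype.val _ (fun g => @Cfsg.Agent.H51.Rad3.Vec.vec = @g) (@Subtype.mk _ _ (@(fun x0 x1 => @Nat.mod (@Nat.div @x0 (@Nat.pow (nat_lit 3) @x1)) (nat_lit 3))) ?_); rfl') | exact @Cfsg.Agent.H51.Rad3.Vec.vec | exact ()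
private theorem _root_.Cfsg.Agent.KO7931264.e5 : (by first | exact @Cfsg.Agent.H51.Rad3.Vec.vec = @_root_.Cfsg.Agent.KO7931264.k5 | exact True : Prop) := by first | (delta _root_.Cfsg.Agent.KO7931264.k5; exact @Subtype.property _ (fun g => @Cfsg.Agent.H51.Rad3.Vec.vec = @g) _) | rfl | trivial
private theorem _root_.Cfsg.Agent.KO7931264.e6.{ku} {M : Nat → Sort ku} (φ : ∀ n, M n) {z : M Nat.zero} {s : ∀ n, M n → M (Nat.succ n)} (h0 : φ Nat.zero = z) (hs : ∀ n, φ (Nat.succ n) = s n (φ n)) (n : Nat) : φ n = @Nat.rec M z s n := Nat.rec h0 (fun n ih => (hs n).trans (congrArg (s n) ih)) n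
private noncomputable def _root_.Cfsg.Agent.KO7931264.k7.{ku0} : type_of% @Nat.iterate.{ku0} := @(fun x0 x1 x2 x3 => @Nat.rec.{ku0} @(fun x4 => @x0 → @x0) @(fun x4 => @x4) @(fun x4 x5 x6 => @x5 (@x1 @x6)) @x2 @x3)
private theorem _root_.Cfsg.Agent.KO7931264.e7.{ku0} : @Nat.iterate.{ku0} = @_root_.Cfsg.Agent.KO7931264.k7.{ku0} := by delta _root_.Cfsg.Agent.KO7931264.k7; funext a0 a1 a2 a3; refine (congrFun (_root_.Cfsg.Agent.KO7931264.e6 (fun a2 a3 => @Nat.iterate.{ku0} a0 a1 a2 a3) ?_ (fun c0 => ?_) a2) a3 :) <;> (rfl')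
private theorem _root_.Cfsg.Agent.KO7931264.e8.{ku, kv} {α : Type kv} {M : List α → Sort ku} (φ : ∀ l, M l) {z : M List.nil} {s : ∀ a l, M l → M (List.cons a l)} (h0 : φ List.nil = z) (hs : ∀ a l, φ (List.cons a l) = s a l (φ l)) (l : List α) : φ l = @List.rec α M z s l := List.rec h0 (fun a l ih => (hs a l).trans (congrArg (s a l) ih)) l
private noncomputable def _root_.Cfsg.Agent.KO7931264.k10.{ku0} : type_of% @List.get?Internal.{ku0} := @(fun x0 x1 x2 => @List.rec.{(ku0+1), ku0} @x0 @(fun x3 => ℕ → @Option.{ku0} @x0) @(fun x3 => @Option.none.{ku0} _) @(fun x3 x4 x5 x6 => @Nat.rec.{(ku0+1)} @(fun x7 => @Option.{ku0} @x0) (@Option.some.{ku0} _ @x3) @(fun x7 x8 => @x5 @x7) @x6) @x1 @x2)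
private theorem _root_.Cfsg.Agent.KO7931264.e10.{ku0} : @List.get?Internal.{ku0} = @_root_.Cfsg.Agent.KO7931264.k10.{ku0} := by delta _root_.Cfsg.Agent.KO7931264.k10; funext a0 a1 a2; refine (congrFun (_root_.Cfsg.Agent.KO7931264.e8 (fun a1 a2 => @List.get?Internal.{ku0} a0 a1 a2) ?_ (fun c0 c1 => ?_) a1) a2 :) <;> [(funext b0; (rfl')); (funext b0; (cases b0 with | @zero  => (rfl') | @succ b0_0 => (rfl')))]
private noncomputable def _root_.Cfsg.Agent.KO7931264.k11 : (by first | exact type_of% @Cfsg.Agent.H51.Rad3.Vec.mtx | exact Unit : Sort _) := by first | (refine @Subtype.val _ (fun g => @Cfsg.Agent.H51.Rad3.Vec.mtx = @g) (@Subtype.mk _ _ (@(fun x0 x1 x2 => @Option.rec.{1, 0} ℕ @(fun x3 => ℕ) (nat_lit 0) @(fun x3 => @x3) (@Cfsg.Agent.KO7931264.k10.{0} _ @x0 (@Nat.add (@Nat.mul (nat_lit 5) @x1) @x2)))) ?_); rewrite [← Cfsg.Agent.KO7931264.e10.{0}]; rfl') | exact @Cfsg.Agent.H51.Rad3.Vec.mtx | exact ()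
private theorem _root_.Cfsg.Agent.KO7931264.e11 : (by first | exact @Cfsg.Agent.H51.Rad3.Vec.mtx = @_root_.Cfsg.Agent.KO7931264.k11 | exact True : Prop) := by first | (delta _root_.Cfsg.Agent.KO7931264.k11; exact @Subtype.property _ (fun g => @Cfsg.Agent.H51.Rad3.Vec.mtx = @g) _) | rfl | trivial
private noncomputable def _root_.Cfsg.Agent.KO7931264.k12 : (by first | exact type_of% @Cfsg.Agent.H51.Rad3.Vec.stepM | exact Unit : Sort _) := by first | (refine @Subtype.val _ (fun g => @Cfsg.Agent.H51.Rad3.Vec.stepM = @g) (@Subtype.mk _ _ (@(fun x0 x1 => @Cfsg.Agent.KO7931264.k4 @(fun x2 => @Nat.add (@Nat.add (@Nat.add (@Nat.add (@Nat.mul (@Cfsg.Agent.KO7931264.k5 @x1 (nat_lit 0)) (@Cfsg.Agent.KO7931264.k11 @x0 (nat_lit 0) @x2)) (@Nat.mul (@Cfsg.Agent.KO7931264.k5 @x1 (nat_lit 1)) (@Cfsg.Agent.KO7931264.k11 @x0 (nat_lit 1) @x2))) (@Nat.mul (@Cfsg.Agent.KO7931264.k5 @x1 (nat_lit 2)) (@Cfsg.Agent.KO7931264.k11 @x0 (nat_lit 2) @x2))) (@Nat.mul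 (@Cfsg.Agent.KO7931264.k5 @x1 (nat_lit 3)) (@Cfsg.Agent.KO7931264.k11 @x0 (nat_lit 3) @x2))) (@Nat.mul (@Cfsg.Agent.KO7931264.k5 @x1 (nat_lit 4)) (@Cfsg.Agent.KO7931264.k11 @x0 (nat_lit 4) @x2))))) ?_); rewrite [← Cfsg.Agent.KO7931264.e11, ← Cfsg.Agent.KO7931264.e5, ← Cfsg.Agent.KO7931264.e4]; (try delta Cfsg.Agent.H51.Rad3.Vec.stepM); (try generalize @Cfsg.Agent.H51.Rad3.Vec.code = g0); (try generalize @Cfsg.Agent.H51.Rad3.Vec.vec = g1); (try generalize @Cfsg.Agent.H51.Rad3.Vec.mtx = g2); rfl') | exact @Cfsg.Agent.H51.Rad3.Vec.stepM | exact ()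
private theorem _root_.Cfsg.Agent.KO7931264.e12 : (by first | exact @Cfsg.Agent.H51.Rad3.Vec.stepM = @_root_.Cfsg.Agent.KO7931264.k12 | exact True : Prop) := by first | (delta _root_.Cfsg.Agent.KO7931264.k12; exact @Subtype.property _ (fun g => @Cfsg.Agent.H51.Rad3.Vec.stepM = @g) _) | rfl | trivial
private noncomputable def _root_.Cfsg.Agent.KO7931264.k13 : (by first | exact type_of% @Cfsg.Agent.TAB.Ly.dd | exact Unit : Sort _) := by first | (refine @Subtype.val _ (fun g => @Cfsg.Agent.TAB.Ly.dd = @g) (@Subtype.mk _ _ (@(fun x0 x1 x2 => @Cfsg.Agent.KO7931264.k4 @(fun x3 => @Nat.add (@Cfsg.Agent.KO7931264.k5 (@Cfsg.Agent.KO7931264.k7.{1} _ (@Cfsg.Agent.KO7931264.k12 @Cfsg.Agent.H51.Rad3.Ly.tv) @x1 (@Cfsg.Agent.KO7931264.k7.{1} _ (@Cfsg.Agent.KO7931264.k12 @Cfsg.Agent.H51.Rad3.Ly.tu) @x0 @x2)) @x3) (@Cfsg.Agent.KO7931264.k5 (@Cfsg.Agent.KO7931264.k4 @(fun x4 => @Nat.add (@Cfsg.Agent.KO7931264.k5 @x2 @x4) (@Cfsg.Agent.KO7931264.k5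 @x2 @x4))) @x3)))) ?_); rewrite [← Cfsg.Agent.KO7931264.e12, ← Cfsg.Agent.KO7931264.e7.{1}, ← Cfsg.Agent.KO7931264.e5, ← Cfsg.Agent.KO7931264.e4]; (try delta Cfsg.Agent.TAB.Ly.dd Cfsg.Agent.TAB.Ly.ad Cfsg.Agent.TAB.Ly.sb); (try generalize @Cfsg.Agent.H51.Rad3.Vec.code = g0); (try generalize @Cfsg.Agent.H51.Rad3.Vec.vec = g1); (try generalize @Cfsg.Agent.H51.Rad3.Vec.stepM = g2); (try generalize @Cfsg.Agent.H51.Rad3.Ly.tv = g3); (try generalize @Cfsg.Agent.H51.Rad3.Ly.tu = g4); rfl') | exact @Cfsg.Agent.TAB.Ly.dd | exact ()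
private theorem _root_.Cfsg.Agent.KO7931264.e13 : (by first | exact @Cfsg.Agent.TAB.Ly.dd = @_root_.Cfsg.Agent.KO7931264.k13 | exact True : Prop) := by first | (delta _root_.Cfsg.Agent.KO7931264.k13; exact @Subtype.property _ (fun g => @Cfsg.Agent.TAB.Ly.dd = @g) _) | rfl | trivial
private noncomputable def _root_.Cfsg.Agent.KO7931264.k14 : (by first | exact type_of% @Cfsg.Agent.TAB.Ly.dt | exact Unit : Sort _) := by first | (refine @Subtype.val _ (fun g => @Cfsg.Agent.TAB.Ly.dt = @g) (@Subtype.mk _ _ (@(fun x0 x1 x2 => @Nat.mod (@Nat.shiftRight (@Option.rec.{1, 0} ℕ @(fun x3 => ℕ) (nat_lit 0) @(fun x3 => @x3) (@Cfsg.Agent.KO7931264.k10.{0} _ @Cfsg.Agent.TAB.Ly.dT (@Nat.add (@Nat.mul (nat_lit 3) @x0) @x1))) (@Nat.mul (nat_lit 8) @x2)) (nat_lit 256))) ?_); rewrite [← Cfsg.Agent.KO7931264.e10.{0}]; (try delta Cfsg.Agent.TAB.Ly.dt); (try generalize @Cfsg.Agent.TAB.Ly.dT = g0); rfl') | exact @Cfsg.Agent.TAB.Ly.dt | exact ()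
private theorem _root_.Cfsg.Agent.KO7931264.e14 : (by first | exact @Cfsg.Agent.TAB.Ly.dt = @_root_.Cfsg.Agent.KO7931264.k14 | exact True : Prop) := by first | (delta _root_.Cfsg.Agent.KO7931264.k14; exact @Subtype.property _ (fun g => @Cfsg.Agent.TAB.Ly.dt = @g) _) | rfl | trivial

theorem chk_dd : ∀ i < 3, ∀ j < 3, ∀ n < 243, dd i j n = dt i j n := by (first | (refine of_decide_eq_true ?_; rewrite [Cfsg.Agent.KO7931264.e0, Cfsg.Agent.KO7931264.e1, Cfsg.Agent.KO7931264.e3, Cfsg.Agent.KO7931264.e13, Cfsg.Agent.KO7931264.e14]; decide +kernel) | decide +kernel)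

private noncomputable def _root_.Cfsg.Agent.KO7931264.k15 : type_of% @forall_prop_decidable := @(fun x0 x1 x2 x3 => @Decidable.rec.{1} _ @(fun x4 => @Decidable ((x5 : @x0) → @x1 @x5)) @(fun x4 => @Decidable.isTrue _ (@forall_prop_decidable._proof_2 _ @x1 @x4)) @(fun x4 => @Decidable.rec.{1} _ @(fun x5 => @Decidable ((x6 : @x0) → @x1 @x6)) @(fun x5 => @Decidable.isFalse _ (@decidable_of_decidable_of_iff._proof_1 _ _ (@forall_prop_decidable._proof_1 _ @x1 @x4) @x5)) @(fun x5 => @Decidable.isTrue _ (@Iff.mp _ _ (@forall_prop_decidable._proof_1 _ @x1 @x4) @x5)) (@x3 @x4)) @x2)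
private theorem _root_.Cfsg.Agent.KO7931264.e15 : @forall_prop_decidable = @_root_.Cfsg.Agent.KO7931264.k15 := by delta _root_.Cfsg.Agent.KO7931264.k15; rfl'
private noncomputable def _root_.Cfsg.Agent.KO7931264.k16 : type_of% @Bool.decEq := @(fun x0 x1 => @Bool.rec.{1} @(fun x2 => @Decidable (@Eq.{1} _ @x2 @x1)) (@Bool.rec.{1} @(fun x2 => @Decidable (@Eq.{1} _ @Bool.false @x2)) (@Decidable.isTrue _ (@rfl.{1} _ _)) (@Decidable.isFalse _ @(fun x2 => @Bool.noConfusion.{0} _ _ _ @x2)) @x1) (@Bool.rec.{1} @(fun x2 => @Decidable (@Eq.{1} _ @Bool.true @x2)) (@Decidable.isFalse _ @(fun x2 => @Bool.noConfusion.{0} _ _ _ @x2)) (@Decidable.isTrue _ (@rfl.{1} _ _)) @x1) @x0)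
private theorem _root_.Cfsg.Agent.KO7931264.e16 : @Bool.decEq = @_root_.Cfsg.Agent.KO7931264.k16 := by delta _root_.Cfsg.Agent.KO7931264.k16; rfl'
private noncomputable def _root_.Cfsg.Agent.KO7931264.k17 : type_of% @instDecidableEqBool := @Cfsg.Agent.KO7931264.k16
private theorem _root_.Cfsg.Agent.KO7931264.e17 : @instDecidableEqBool = @_root_.Cfsg.Agent.KO7931264.k17 := by delta _root_.Cfsg.Agent.KO7931264.k17; rewrite [← Cfsg.Agent.KO7931264.e16]; rfl'
private noncomputable def _root_.Cfsg.Agent.KO7931264.oEq.{ku} (α : Sort ku) (a b : Nat) (f t : α) : α := @Decidable.rec (a = b) (fun _ => α) (fun _ => f) (fun _ => t) (Nat.decEq a b)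
private noncomputable def _root_.Cfsg.Agent.KO7931264.k18.{ku} (α : Sort ku) (a b : Nat) (f t : α) : α := @Bool.rec (fun _ => α) f t (Nat.beq a b)
private theorem _root_.Cfsg.Agent.KO7931264.e18.{ku} : @_root_.Cfsg.Agent.KO7931264.oEq.{ku} = @_root_.Cfsg.Agent.KO7931264.k18.{ku} := funext fun α => funext fun a => funext fun b => funext fun f => funext fun t => by delta _root_.Cfsg.Agent.KO7931264.oEq _root_.Cfsg.Agent.KO7931264.k18; cases h : Nat.beq a b <;> cases Nat.decEq a b <;> rename_i g <;> first | rfl | exact absurd g (Nat.ne_of_beq_eq_false h) | exact absurd (Nat.eq_of_beq_eq_true h) g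
private noncomputable def _root_.Cfsg.Agent.KO7931264.k19 : type_of% @Nat.testBit := @(fun x0 x1 => @Bool.rec.{1} @(fun x2 => @Bool) @Bool.true @Bool.false (@Cfsg.Agent.KO7931264.k18.{1} @Bool (@Nat.land (nat_lit 1) (@Nat.shiftRight @x0 @x1)) (nat_lit 0) @Bool.false @Bool.true))
private theorem _root_.Cfsg.Agent.KO7931264.e19 : @Nat.testBit = @_root_.Cfsg.Agent.KO7931264.k19 := by delta _root_.Cfsg.Agent.KO7931264.k19; rewrite [← Cfsg.Agent.KO7931264.e18.{1}]; rfl'
private noncomputable def _root_.Cfsg.Agent.KO7931264.k20.{ku0} : type_of% @List.getD.{ku0} := @(fun x0 x1 x2 x3 => @Option.rec.{(ku0+1), ku0} @x0 @(fun x4 => @x0) @x3 @(fun x4 => @x4) (@Cfsg.Agent.KO7931264.k10.{ku0} _ @x1 @x2))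
private theorem _root_.Cfsg.Agent.KO7931264.e20.{ku0} : @List.getD.{ku0} = @_root_.Cfsg.Agent.KO7931264.k20.{ku0} := by delta _root_.Cfsg.Agent.KO7931264.k20; rewrite [← Cfsg.Agent.KO7931264.e10.{ku0}]; rfl'
private noncomputable def _root_.Cfsg.Agent.KO7931264.k21 : (by first | exact type_of% @Cfsg.Agent.TAB.Ly.nr | exact Unit : Sort _) := by first | (refine @Subtype.val _ (fun g => @Cfsg.Agent.TAB.Ly.nr = @g) (@Subtype.mk _ _ (@(fun x0 x1 x2 => @Cfsg.Agent.KO7931264.k4 @(fun x3 => @Nat.add (@Cfsg.Agent.KO7931264.k5 (@Cfsg.Agent.KO7931264.k4 @(fun x4 => @Nat.add (@Cfsg.Agent.KO7931264.k5 (@Cfsg.Agent.KO7931264.k7.{1} _ (@Cfsg.Agent.KO7931264.k12 @Cfsg.Agent.H51.Rad3.Ly.tv) @x1 (@Cfsg.Agent.KO7931264.k7.{1} _ (@Cfsg.Agent.KO7931264.k12 @Cfsg.Agent.H51.Rad3.Ly.tu) @x0 (@Cfsg.Agent.KO7931264.k7.{1} _ (@Cfsg.Agent.KO7931264.k12 @Cfsg.Agent.H51.Rad3.Ly.tv) @x1 (@Cfsg.Agent.KO7931264.k7.{1} _ (@Cfsg.Agent.KO7931264.k12 @Cfsg.Agent.H51.Rad3.Ly.tu)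 @x0 @x2)))) @x4) (@Cfsg.Agent.KO7931264.k5 (@Cfsg.Agent.KO7931264.k7.{1} _ (@Cfsg.Agent.KO7931264.k12 @Cfsg.Agent.H51.Rad3.Ly.tv) @x1 (@Cfsg.Agent.KO7931264.k7.{1} _ (@Cfsg.Agent.KO7931264.k12 @Cfsg.Agent.H51.Rad3.Ly.tu) @x0 @x2)) @x4))) @x3) (@Cfsg.Agent.KO7931264.k5 @x2 @x3)))) ?_); rewrite [← Cfsg.Agent.KO7931264.e12, ← Cfsg.Agent.KO7931264.e7.{1}, ← Cfsg.Agent.KO7931264.e5, ← Cfsg.Agent.KO7931264.e4]; (try delta Cfsg.Agent.TAB.Ly.nr Cfsg.Agent.TAB.Ly.ad Cfsg.Agent.TAB.Ly.sb); (try generalize @Cfsg.Agent.H51.Rad3.Vec.code = g0); (try generalize @Cfsg.Agent.H51.Rad3.Vec.vec = g1); (try generalize @Cfsg.Agent.H51.Rad3.Vec.stepM = g2); (try generalize @Cfsg.Agent.H51.Rad3.Ly.tv = g3); (try generalize @Cfsg.Agent.H51.Rad3.Ly.tu = g4); rfl') | exact @Cfsg.Agent.TAB.Ly.nr | exact ()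
private theorem _root_.Cfsg.Agent.KO7931264.e21 : (by first | exact @Cfsg.Agent.TAB.Ly.nr = @_root_.Cfsg.Agent.KO7931264.k21 | exact True : Prop) := by first | (delta _root_.Cfsg.Agent.KO7931264.k21; exact @Subtype.property _ (fun g => @Cfsg.Agent.TAB.Ly.nr = @g) _) | rfl | trivial

theorem chk_nr : ∀ i < 3, ∀ j < 3, ∀ n < 243, (zT.getD (3 * i + j) 0).testBit n = true → nr i j n = 0 := by
  (first | (refine of_decide_eq_true ?_; rewrite [Cfsg.Agent.KO7931264.e0, Cfsg.Agent.KO7931264.e1, Cfsg.Agent.KO7931264.e15, Cfsg.Agent.KO7931264.e17, Cfsg.Agent.KO7931264.e19, Cfsg.Agent.KO7931264.e20.{0}, Cfsg.Agent.KO7931264.e3, Cfsg.Agent.KO7931264.e21]; decide +kernel) | decide +kernel)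

theorem chk_im : ∀ i < 3, ∀ j < 3, ∀ n < 243, (mT.getD (3 * i + j) 0).testBit (dt i j n) = true := by (first | (refine of_decide_eq_true ?_; rewrite [Cfsg.Agent.KO7931264.e0, Cfsg.Agent.KO7931264.e1, Cfsg.Agent.KO7931264.e17, Cfsg.Agent.KO7931264.e19, Cfsg.Agent.KO7931264.e20.{0}, Cfsg.Agent.KO7931264.e14]; decide +kernel) | decide +kernel)

private noncomputable def _root_.Cfsg.Agent.KO7931264.k22 : type_of% @instDecidableOr := @(fun x0 x1 x2 x3 => @Decidable.rec.{1} _ @(fun x4 => @Decidable (@Or @x0 @x1)) @(fun x4 => @Decidable.rec.{1} _ @(fun x5 => @Decidable (@Or @x0 @x1)) @(fun x5 => @Decidable.isFalse _ (@instDecidableOr._proof_1 _ _ @x4 @x5)) @(fun x5 => @Decidable.isTrue _ (@Or.inr _ _ @x5)) @x3) @(fun x4 => @Decidable.isTrue _ (@Or.inl _ _ @x4)) @x2)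
private theorem _root_.Cfsg.Agent.KO7931264.e22 : @instDecidableOr = @_root_.Cfsg.Agent.KO7931264.k22 := by delta _root_.Cfsg.Agent.KO7931264.k22; rfl'
private noncomputable def _root_.Cfsg.Agent.KO7931264.k23 : type_of% @Nat.decidableExistsLT := @(fun x0 x1 x2 => @Nat.rec.{1} @(fun x3 => @Decidable (@Exists.{1} _ @(fun x4 => @And (@LT.lt.{0} _ _ @x4 @x3) (@x0 @x4)))) (@Decidable.isFalse _ (@Nat.decidableExistsLT._proof_5 _)) @(fun x3 x4 => @Decidable.rec.{1} _ @(fun x5 => @Decidable (@Exists.{1} _ @(fun x6 => @And (@LT.lt.{0} _ _ @x6 (@HAdd.hAdd.{0, 0, 0} _ _ _ _ @x3 ((1 : ℕ)))) (@x0 @x6)))) @(fun x5 => @Decidable.isFalse _ (@decidable_of_decidable_of_iff._proof_1 _ _ (@Nat.decidableExistsLT._proof_10 _ @x3) @x5)) @(fun x5 => @Decidable.isTrue _ (@Iff.mp _ _ (@Nat.decidableExistsLT._proof_10 _ @x3) @x5)) (@Cfsg.Agent.KO7931264.k22 _ _ @x4 (@x1 @x3))) @x2)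
private theorem _root_.Cfsg.Agent.KO7931264.e23 : @Nat.decidableExistsLT = @_root_.Cfsg.Agent.KO7931264.k23 := by delta _root_.Cfsg.Agent.KO7931264.k23; rewrite [← Cfsg.Agent.KO7931264.e22]; funext a0 a1 a2; refine (_root_.Cfsg.Agent.KO7931264.e6 (fun a2 => @Nat.decidableExistsLT a0 a1 a2) ?_ (fun c0 => ?_) a2 :) <;> (rfl')
private noncomputable def _root_.Cfsg.Agent.KO7931264.k24 : type_of% @instDecidableAnd := @(fun x0 x1 x2 x3 => @Decidable.rec.{1} _ @(fun x4 => @Decidable (@And @x0 @x1)) @(fun x4 => @Decidable.isFalse _ (@instDecidableAnd._proof_2 _ _ @x4)) @(fun x4 => @Decidable.rec.{1} _ @(fun x5 => @Decidable (@And @x0 @x1)) @(fun x5 => @Decidable.isFalse _ (@instDecidableAnd._proof_1 _ _ @x5)) @(fun x5 => @Decidable.isTrue _ (@And.intro _ _ @x4 @x5)) @x3) @x2)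
private theorem _root_.Cfsg.Agent.KO7931264.e24 : @instDecidableAnd = @_root_.Cfsg.Agent.KO7931264.k24 := by delta _root_.Cfsg.Agent.KO7931264.k24; rfl'

set_option synthInstance.maxSize 1000 in
theorem chk_main : ∀ i < 3, ∀ j < 3, ∀ i' < 3, ∀ j' < 3, (∃ k < 3, i' = k * i % 3 ∧ j' = k * j % 3) ∨
    ∀ n < 243, (mT.getD (3 * i + j) 0).testBit (dt i' j' n) = true → (zT.getD (3 * i + j) 0).testBit n = true := by
  (first | (refine of_decide_eq_true ?_; rewrite [Cfsg.Agent.KO7931264.e0, Cfsg.Agent.KO7931264.e1, Cfsg.Agent.KO7931264.e22, Cfsg.Agent.KO7931264.e23, Cfsg.Agent.KO7931264.e24, Cfsg.Agent.KO7931264.e3, Cfsg.Agent.KO7931264.e15, Cfsg.Agent.KO7931264.e17, Cfsg.Agent.KO7931264.e19, Cfsg.Agent.KO7931264.e20.{0}, Cfsg.Agent.KO7931264.e14]; decide +kernel) | decide +kernel)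

theorem chk_fix : ∀ i < 3, ∀ j < 3, (i = 0 ∧ j = 0) ∨
    (((Finset.range 243).filter fun n => dt i j n = 0).card ≤ 9 ∧ dt i j 1 ≠ 0) := by decide +kernel

theorem chk_zero : ∀ n < 243, dt 0 0 n = 0 := by decide +kernel

theorem chk_cen : ∀ n < 243, dt 1 0 n = 0 → ∃ m < 243, dt 1 0 m = n := by (first | (refine of_decide_eq_true ?_; rewrite [Cfsg.Agent.KO7931264.e0, Cfsg.Agent.KO7931264.e1, Cfsg.Agent.KO7931264.e15, Cfsg.Agent.KO7931264.e3, Cfsg.Agent.KO7931264.e14, Cfsg.Agent.KO7931264.e23]; decide +kernel) | decide +kernel)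

theorem e3 : ∀ i < 5, e i ^ 3 = 1 := fun i _ => e_cube i

theorem ev_mul (m n : ℕ) : ev m * ev n = ev (ad m n) := by
  rw [ev, ev, el_mul e_comm le_rfl, ev, ad, el_vec_code e3]

theorem ev_mem (n : ℕ) : ev n ∈ E := by
  rw [ev, el_five]
  have m : ∀ k, k < 5 → ∀ n : ℕ, e k ^ n ∈ E := fun k hk n => pow_mem (mem_e k hk) n
  exact mul_mem (mul_mem (mul_mem (mul_mem (m 0 (by norm_num) _) (m 1 (by norm_num) _)) (m 2 (by norm_num) _))
    (m 3 (by norm_num) _)) (m 4 (by norm_num) _)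

theorem mem_E {x : Spor.Ly} (hx : x ∈ E) : ∃ n < 243, x = ev n := by
  obtain ⟨a, rfl⟩ := H51.Rad3.Vec.mem_closure e_comm rfl e3 hx
  exact ⟨code a, code_lt a, (el_vec_code e3 a).symm⟩

theorem ev_zero : ev 0 = 1 := by simp [ev, el_five, vec]

theorem ev_inj {m n : ℕ} (hm : m < 243) (hn : n < 243) (h : ev m = ev n) : m = n := by
  have := fin
  have h2 : 3 ^ 5 ∣ Nat.card E := by
    refine H51.LyThreeGrp.pow_five_dvd E_props.1 g11 (fun x hx => (mem_normalizer_iff.1 g_norm x).1 hx) (y := e 0)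
      (mem_e 0 (by norm_num)) fun h => e1_ne ?_
    rw [e_succ, mul_assoc, ← h, inv_mul_cancel_left]
  let f : Fin 243 → E := fun n => ⟨ev n, ev_mem n⟩
  have h3 : Function.Surjective f := fun x => by
    obtain ⟨n, h4, h5⟩ := mem_E x.2
    exact ⟨⟨n, h4⟩, Subtype.ext h5.symm⟩
  have h4 := (Nat.bijective_iff_surjective_and_card f).2 ⟨h3, le_antisymm
    (by rw [Nat.card_fin]; exact Nat.le_of_dvd Nat.card_pos h2) (Nat.card_le_card_of_surjective f h3)⟩
  exact congrArg Fin.val (h4.1 (a₁ := ⟨m, hm⟩) (a₂ := ⟨n, hn⟩) (Subtype.ext h))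

theorem conj_pow_ev {c : Spor.Ly} {l : List ℕ} (h : ∀ k < 5, c⁻¹ * e k * c = el e 5 (mtx l k)) (i n : ℕ) :
    (c ^ i)⁻¹ * ev n * c ^ i = ev ((stepM l)^[i] n) := by
  induction i with
  | zero => simp
  | succ i ih =>
    rw [Function.iterate_succ_apply', ev, ev, ← conj_vec e_comm e3 h, ← ev, ← ev, ← ih, pow_succ]
    group

theorem conj_ev (i j n : ℕ) : (bb i j)⁻¹ * ev n * bb i j = ev (sb i j n) := by
  rw [sb, ← conj_pow_ev act_v, ← conj_pow_ev act_u, bb]
  group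

theorem bb_mem (i j : ℕ) : bb i j ∈ U :=
  mul_mem (pow_mem (subset_closure (by simp)) i) (pow_mem (subset_closure (by simp)) j)

theorem bb_pow (i j k : ℕ) : bb i j ^ k = bb (k * i % 3) (k * j % 3) := by
  rw [bb, bb, ((show Commute u v from uv).pow_pow _ _).mul_pow, ← pow_mul, ← pow_mul, pow_eq_pow_mod _ u3,
    pow_eq_pow_mod _ v3, mul_comm i, mul_comm j]

theorem mem_P {x : Spor.Ly} (hx : x ∈ U ⊔ E) : ∃ i < 3, ∃ j < 3, ∃ n < 243, x = bb i j * ev n := by
  rw [← SetLike.mem_coe, coe_mul_of_left_le_normalizer_right U E U_le] at hx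
  obtain ⟨b, hb, a, ha, rfl⟩ := hx
  obtain ⟨i, j, rfl⟩ := mem_U hb
  obtain ⟨n, hn, rfl⟩ := mem_E ha
  refine ⟨i % 3, Nat.mod_lt _ (by decide), j % 3, Nat.mod_lt _ (by decide), n, hn, ?_⟩
  rw [bb, ← pow_eq_pow_mod _ u3, ← pow_eq_pow_mod _ v3]

theorem ev_comm (m n : ℕ) : ev m * ev n = ev n * ev m := E_props.2 _ (ev_mem m) _ (ev_mem n)

theorem ev_cube (n : ℕ) : ev n * (ev n * ev n) = 1 := by
  rw [← E_props.1 _ (ev_mem n), pow_three]

theorem ev_dd (i j n : ℕ) : ev (dd i j n) * ev n = (bb i j)⁻¹ * ev n * bb i j := by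
  rw [dd, ← ev_mul, ← ev_mul, conj_ev, mul_assoc, mul_assoc, ev_cube, mul_one]

theorem dd_lt (i j n : ℕ) : dd i j n < 243 := by
  rw [dd, ad]
  exact code_lt _

theorem comm_dd {i j n i' j' n' : ℕ} (hi : i < 3) (hj : j < 3) (hn : n < 243) (hi' : i' < 3) (hj' : j' < 3)
    (hn' : n' < 243) (h : bb i' j' * ev n' * (bb i j * ev n) = bb i j * ev n * (bb i' j' * ev n')) :
    dt i j n' = dt i' j' n := by
  rw [← chk_dd i hi j hj n' hn', ← chk_dd i' hi' j' hj' n hn]
  refine ev_inj (dd_lt _ _ _) (dd_lt _ _ _) (mul_right_cancel (b := ev n' * ev n) ?_)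
  rw [← mul_assoc, ev_dd, ev_comm n' n, ← mul_assoc, ev_dd]
  refine mul_left_cancel (a := bb i' j' * bb i j) ?_
  calc _ = bb i' j' * ev n' * (bb i j * ev n) := by group
    _ = bb i j * bb i' j' * ((bb i' j')⁻¹ * ev n * bb i' j' * ev n') := by rw [h]; group
    _ = _ := by rw [U_props.2 _ (bb_mem i j) _ (bb_mem i' j')]

theorem cube_eq (i j n : ℕ) : (bb i j * ev n) ^ 3 = ev (nr i j n) := by
  rw [nr, ← ev_mul, ← ev_mul, ← conj_ev, ← conj_ev, ← one_mul (_ * _ * ev n), ← U_props.1 _ (bb_mem i j),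
    pow_three, pow_three]
  group

theorem pow_mem_E {b a : Spor.Ly} (hb : b ∈ U) (ha : a ∈ E) (k : ℕ) : (b ^ k)⁻¹ * (b * a) ^ k ∈ E := by
  induction k with
  | zero => simp
  | succ k ih =>
    have h1 := mul_mem ((mem_normalizer_iff.1 (U_le (inv_mem hb)) _).1 ih) ha
    convert h1 using 1
    rw [pow_succ, pow_succ]
    group

theorem card_nine {x : Spor.Ly} (hx : x ∈ U ⊔ E) (h3 : x ^ 3 ≠ 1) :
    Nat.card ↥((U ⊔ E) ⊓ centralizer ({x} : Set Spor.Ly)) ≤ 27 := by
  obtain ⟨i, hi, j, hj, n, hn, rfl⟩ := mem_P hx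
  have h1 := (chk_fix i hi j hj).resolve_left fun h => h3 (by
    rw [h.1, h.2]
    simpa [bb] using E_props.1 _ (ev_mem n))
  have h2 : ∀ q : ↥((U ⊔ E) ⊓ centralizer ({bb i j * ev n} : Set Spor.Ly)), ∃ p : ↥(Finset.range 3 ×ˢ
      (Finset.range 243).filter fun m => dt i j m = 0), (q : Spor.Ly) = (bb i j * ev n) ^ p.1.1 * ev p.1.2 := by
    rintro ⟨q, h4, h5⟩
    replace h5 := mem_centralizer_singleton_iff.1 h5
    obtain ⟨i', hi', j', hj', n', hn', rfl⟩ := mem_P h4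
    obtain ⟨k, hk, rfl, rfl⟩ := (chk_main i hi j hj i' hi' j' hj').resolve_right fun h => h3 (by
      rw [cube_eq, chk_nr i hi j hj n hn (h n hn (comm_dd hi hj hn hi' hj' hn' h5 ▸ chk_im i hi j hj n' hn')), ev_zero])
    rw [← bb_pow] at h5
    obtain ⟨m, hm, h6⟩ := mem_E (mul_mem (inv_mem (pow_mem_E (bb_mem i j) (ev_mem n) k)) (ev_mem n'))
    have h7 : bb i j ^ k * ev n' = (bb i j * ev n) ^ k * ev m := by
      rw [← h6]
      group
    refine ⟨⟨(k, m), Finset.mem_product.2 ⟨Finset.mem_range.2 hk, Finset.mem_filter.2 ⟨Finset.mem_range.2 hm, ?_⟩⟩⟩,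
      by rw [← h7, bb_pow]⟩
    rw [← chk_zero n hn]
    refine comm_dd hi hj hn (by decide) (by decide) hm ?_
    rw [h7, mul_assoc, ← mul_assoc (bb i j * ev n), ← pow_succ', pow_succ, mul_assoc (_ ^ k)] at h5
    simpa [bb] using mul_left_cancel h5
  choose f hf using h2
  refine (Nat.card_le_card_of_injective f fun a b hab => Subtype.ext (by rw [hf, hf, hab])).trans ?_
  rw [Nat.card_eq_fintype_card, Fintype.card_coe, Finset.card_product, Finset.card_range]
  omega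

/-- **the 3-part of the centralizers of the elements of order 9** -/
theorem cent_nine {x : Spor.Ly} (hx : orderOf x = 9) : ¬ 3 ^ 4 ∣ cc x := fun h => by
  have := fin
  have := Fact.mk Nat.prime_three
  obtain ⟨T, hT⟩ := Sylow.exists_subgroup_card_pow_prime (G := centralizer ({x} : Set Spor.Ly)) 3 h
  have h1 : Nat.card (T.map (centralizer ({x} : Set Spor.Ly)).subtype) = 3 ^ 4 := by
    rw [card_map_of_injective (subtype_injective _), hT]
  have h2 : IsPGroup 3 (zpowers x) := IsPGroup.of_card (n := 2) (by rw [Nat.card_zpowers, hx]; rfl)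
  have h3 := (IsPGroup.of_card h1).to_sup_of_normal_right' h2
    ((map_subtype_le T).trans ((cent_zpowers x).ge.trans (centralizer_le_normalizer _)))
  obtain ⟨c, hc⟩ := exists_conj_le Nat.prime_three h3 index_P
  have h4 := card_nine (hc x (mem_sup_right (mem_zpowers x))) fun e => by
    rw [conj_pow, conj_eq_one_iff, ← orderOf_dvd_iff_pow_eq_one, hx] at e
    omega
  have h5 : (T.map (centralizer ({x} : Set Spor.Ly)).subtype).map (MulAut.conj c).toMonoidHom ≤
      (U ⊔ E) ⊓ centralizer ({c * x * c⁻¹} : Set Spor.Ly) := by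
    rintro _ ⟨a, ha, rfl⟩
    exact ⟨hc a (mem_sup_left ha), mem_centralizer_singleton_iff.2
      (CpAutLy.McLThree.conj_comm c (mem_centralizer_singleton_iff.1 (map_subtype_le T ha)))⟩
  have h6 := card_le_of_le h5
  rw [card_map_of_injective (MulAut.conj c).injective, h1] at h6
  omega

/-- **an element `y` which is conjugate to `y a`** -/
theorem exists_fuse : ∃ a y c : Spor.Ly, TData a ∧ orderOf y = 3 ∧ y * a = a * y ∧ y ∉ zpowers a ∧
    c * a = a * c ∧ c * y * c⁻¹ = y * a := by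
  have := fin
  have := Fact.mk Nat.prime_three
  obtain ⟨x₀, h₀⟩ := exists_tdata_ly
  obtain ⟨c, hc⟩ := exists_conj_le Nat.prime_three (H := centralizer ({x₀} : Set Spor.Ly)) isPGroup_P
    (not_dvd_index (k := 7) (a := 23669492000000) (b := 1232000) card h₀.mcl.card Nat.prime_three (by decide))
  have h1 := h₀.conj c⁻¹
  generalize ha : c⁻¹ * x₀ * c⁻¹⁻¹ = a at h1
  have h2 : ∀ p ∈ U ⊔ E, p * a = a * p := fun p hp => by
    have h3 := CpAutLy.McLThree.conj_comm c⁻¹ (mem_centralizer_singleton_iff.1 (hc p hp))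
    rwa [ha, show c⁻¹ * (c * p * c⁻¹) * c⁻¹⁻¹ = p by group] at h3
  have h3 : a ∈ U ⊔ E := by
    have h4 := isPGroup_P.to_sup_of_normal_right' (isPGroup_zpowers' Nat.prime_three h1.ord)
      (le_trans (fun p hp => (cent_zpowers a).ge (mem_centralizer_singleton_iff.2 (h2 p hp)))
        (centralizer_le_normalizer _))
    have h5 := (isPGroup_P.toSylow index_P).is_maximal' h4 le_sup_left
    exact (le_sup_right.trans h5.le) (mem_zpowers a)
  obtain ⟨i, hi, j, hj, n, hn, rfl⟩ := mem_P h3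
  obtain ⟨rfl, rfl⟩ := (chk_fix i hi j hj).resolve_right fun h => h.2 (by
    rw [← chk_zero n hn]
    refine comm_dd hi hj hn (by decide) (by decide) (by decide) ?_
    simpa [bb] using h2 _ (mem_sup_right (ev_mem 1)))
  have h4 : bb 0 0 * ev n = ev n := by simp [bb]
  have h5 : bb 1 0 = u := by simp [bb]
  rw [h4] at h1 h2
  have hu : u ∈ U := h5 ▸ bb_mem 1 0
  obtain ⟨m, hm, h6⟩ := chk_cen n hn (by
    refine (comm_dd (by decide) (by decide) (by decide) (by decide) (by decide) hn ?_).trans (chk_zero 0 (by decide))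
    rw [h4, h5, ev_zero, mul_one, h2 u (mem_sup_left hu)])
  refine ⟨ev n, u, ev m, h1, orderOf_eq_prime u3 u_ne_one, h2 u (mem_sup_left hu),
    fun h => u_ne_one (U_inf_E (zpowers_le.2 (ev_mem n) h) hu), ev_comm m n, ?_⟩
  have h7 := ev_dd 1 0 m
  rw [chk_dd 1 (by decide) 0 (by decide) m hm, h6, h5] at h7
  rw [eq_mul_inv_of_mul_eq h7]
  group

end Cfsg.Agent.TAB.Ly

private theorem dce_542791db19e4 : _root_.True := by
  try have : _root_.True := by simp only [_root_.Cfsg.Agent.TAB.Ly.dd.eq_1]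
  try have : _root_.True := by simp only [_root_.Cfsg.Agent.TAB.Ly.ev.eq_1]
  try have : _root_.True := by simp only [_root_.Cfsg.Agent.TAB.Ly.sb.eq_1]
  try have : _root_.True := by simp only [_root_.Cfsg.Agent.TAB.Ly.ad.eq_1]
  try have : _root_.True := by simp only [_root_.Cfsg.Agent.TAB.Ly.bb.eq_1]
  try have : _root_.True := by simp only [_root_.Cfsg.Agent.TAB.Ly.nr.eq_1]
  exact _root_.True.intro
end

-- part: TAB/Ly/ThreeB
section
set_option linter.all false
open scoped Cfsg.Agent.FastGrp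

/-!
# The Lyons group : the class `3B` (Thompson's order formula), the boxes of `3B`, `9A`, `15B` (helper57, TAB)
-/

set_option autoImplicit false

namespace Cfsg.Agent.TAB.Ly

open Cfsg Subgroup Equiv Cfsg.Agent.SporRec.TwoAn Cfsg.Agent.TypeM.Two Cfsg.Agent.TypeM.McLFromLy
open Cfsg.Agent.CpAutLy.Cov Cfsg.Agent.CpAutLy.Types Cfsg.Agent.CpAutLy.Base Cfsg.Agent.H582.Ly
open Cfsg.Agent.H710.Spor.Ly Cfsg.Agent.CpAutLy Cfsg.Agent.TAB.Eng Cfsg.Agent.CpAutLy.McLThree

universe u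

section

variable {G : Type u} [Group G]

/-- the pairs with the same number are conjugate -/
theorem conj_of_nn (L : MT 11 G) {x t y s : G} (hx : orderOf x = 3) (ht : orderOf t = 2) (htx : t * x = x * t)
    (hy : orderOf y = 3) (hs : orderOf s = 2) (hsy : s * y = y * s) (h : nn y s = nn x t) :
    ∃ g : G, g * y * g⁻¹ = x ∧ g * s * g⁻¹ = t := by
  obtain ⟨h1, h2⟩ := MT.sq_of_orderOf ht
  obtain ⟨h1', h2'⟩ := MT.sq_of_orderOf hs
  obtain ⟨L', rfl⟩ := L.exists_rebase h1 h2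
  obtain ⟨g, hg⟩ := L'.conj_of_involutions h1' h2' h1 h2
  have hy' : orderOf (g * y * g⁻¹) = 3 := by rw [McLThree.orderOf_conj', hy]
  have hty : L'.t * (g * y * g⁻¹) = g * y * g⁻¹ * L'.t := by rw [← hg]; exact conj_comm g hsy
  have hn : nn (g * y * g⁻¹) L'.t = nn x L'.t := by rw [← h, ← hg, nn_conj]
  have hc : (L'.K.π (xc hty)).cycleType = (L'.K.π (xc htx)).cycleType ∧
      (L'.K.π (xc hty)).cycleType.sum + 2 ≤ 11 := by
    rcases cases L' hx htx with h0 | h0 | h0 <;> rcases cases L' hy' hty with h3 | h3 | h3 <;>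
      first | omega | exact ⟨h3.1.trans h0.1.symm, by rw [h3.1]; decide⟩
  obtain ⟨ρ, h3, h4⟩ := CpAut.Cyc.exists_even_conj hc.1 (by rw [← Perm.sum_cycleType]; exact hc.2)
  obtain ⟨c, h5⟩ := CpAut.Cyc.exists_conj L'.K (n := 3) (by decide) (xc_cube hy' hty) (xc_cube hx htx) h3 h4
  have h6 : (c : G) * (g * y * g⁻¹) * (c : G)⁻¹ = x := congrArg Subtype.val h5
  refine ⟨c * g, by rw [← h6]; group, ?_⟩
  refine Eq.trans ?_ (mul_inv_eq_iff_eq_mul.2 (mem_centralizer_singleton_iff.1 c.2))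
  rw [mul_inv_rev, ← mul_assoc, mul_assoc (c : G), mul_assoc (c : G), hg]

theorem comm_of_mem [Finite G] {p q r : G} (hp : orderOf p = 2) (hq : orderOf q = 2) (hr : orderOf r = 2)
    (hne : p ≠ q) (h : r ∈ zpowers (p * q)) : p * r = r * p ∧ q * r = r * q ∧ p ≠ r ∧ q ≠ r := by
  have h1 := (MT.sq_of_orderOf hp).1
  have h2 := (MT.sq_of_orderOf hq).1
  have h3 := (MT.sq_of_orderOf hr).1
  have h4 : p * r = r * p := by
    obtain ⟨i, rfl⟩ := h
    have h4 := Involutions.PairCount.mul_inverts h1 h2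
    rw [← mul_inv_eq_iff_eq_mul, ← conj_zpow, h4, inv_zpow, inv_eq_of_mul_eq_one_left h3]
  have h5 : p * q * r = r * (p * q) := by
    obtain ⟨i, rfl⟩ := h
    exact (Commute.self_zpow (p * q) i :)
  have h6 : p ∈ zpowers (p * q) → q ∈ zpowers (p * q) → False := fun a b =>
    have e : Even (orderOf (p * q)) := even_iff_two_dvd.2 (hp ▸ orderOf_dvd_of_mem_zpowers a)
    hne (((Involutions.PairCount.mem_zpowers_iff_pow_half e hp).1 a).symm.trans
      ((Involutions.PairCount.mem_zpowers_iff_pow_half e hq).1 b))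
  refine ⟨h4, mul_left_cancel (a := p) (by rw [← mul_assoc, h5, ← mul_assoc, ← h4, mul_assoc]), ?_, ?_⟩
  · rintro rfl
    exact h6 h (by simpa [← mul_assoc, h1] using mul_mem h (mem_zpowers (p * q)))
  · rintro rfl
    exact h6 (by simpa [mul_assoc, h2] using mul_mem (mem_zpowers (p * q)) h) h

theorem nn_conj' {y s c : G} (hc : c * y = y * c) : nn y (c * s * c⁻¹) = nn y s := by
  rw [← nn_conj c y s, hc, mul_inv_cancel_right]

theorem nn_isConj {y : G} {p q : centralizer ({y} : Set G)} (h : IsConj p q) : nn y (q : G) = nn y (p : G) := by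
  obtain ⟨c, rfl⟩ := isConj_iff.1 h
  exact nn_conj' (mem_centralizer_singleton_iff.1 c.2)

theorem inv_of (L : MT 11 G) {y : G} (h : L.t * y = y * L.t) {p : G} (h1 : orderOf p = 2) (h2 : p * y = y * p)
    (h3 : p * L.t = L.t * p) (h4 : p ≠ L.t) : Inv L.K (xc h) (xc h3.symm) :=
  ⟨Subtype.ext (MT.sq_of_orderOf h1).1, fun e => (MT.sq_of_orderOf h1).2 (congrArg Subtype.val e),
    fun e => h4 ((congrArg Subtype.val e).trans L.hz), Subtype.ext h2⟩

/-- **Thompson's order formula in `C(y)`** -/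
theorem cc_le [Finite G] (L : MT 11 G) {y t w : G} (hy : orderOf y = 3) (ht : orderOf t = 2) (hw : orderOf w = 2)
    (hty : t * y = y * t) (hwy : w * y = y * w) (h1 : nn y t = 2160) (h2 : nn y w = 324)
    (hno : ∀ s, orderOf s = 2 → s * y = y * s → nn y s ≠ 120960) : cc y ≤ 174960 := by
  classical
  have ho : ∀ {p q : centralizer ({y} : Set G)}, orderOf (p : G) = 2 → IsConj p q → orderOf q = 2 := fun h e => by
    rw [← Sm1.order_conj e, ← Subgroup.orderOf_coe, h]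
  have hne : ∀ {p q : centralizer ({y} : Set G)}, IsConj (xc hty.symm) p → IsConj (xc hwy.symm) q → p ≠ q := by
    rintro p _ a b rfl
    have h3 := (nn_isConj a).trans h1
    have h4 := (nn_isConj b).trans h2
    omega
  have h3 := S0213.result (xc hty.symm) (xc hwy.symm) (ho ht (IsConj.refl _)) (ho hw (IsConj.refl _))
    (fun e => hne e (IsConj.refl _) rfl) fun s hs => by
      rw [← Subgroup.orderOf_coe] at hs
      have h4 := mem_centralizer_singleton_iff.1 s.2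
      rcases nn_cases L hy hs h4 with h5 | h5 | h5
      · exact absurd h5 (hno s hs h4)
      · obtain ⟨g, h6, h7⟩ := conj_of_nn L hy hs h4 hy ht hty (h1.trans h5.symm)
        exact Or.inl (isConj_iff.2 ⟨xc (mul_inv_eq_iff_eq_mul.1 h6).symm, Subtype.ext h7⟩)
      · obtain ⟨g, h6, h7⟩ := conj_of_nn L hy hs h4 hy hw hwy (h2.trans h5.symm)
        exact Or.inr (isConj_iff.2 ⟨xc (mul_inv_eq_iff_eq_mul.1 h6).symm, Subtype.ext h7⟩)
  rw [nn_eq', nn_eq'] at h3
  have h4 : IsEmpty {p : centralizer ({y} : Set G) × centralizer ({y} : Set G) // IsConj (xc hty.symm) p.1 ∧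
      IsConj (xc hwy.symm) p.2 ∧ xc hty.symm ∈ zpowers (p.1 * p.2)} := ⟨fun ⟨⟨p, q⟩, a, b, c⟩ => by
    obtain ⟨L', rfl⟩ := L.exists_rebase (MT.sq_of_orderOf ht).1 (MT.sq_of_orderOf ht).2
    obtain ⟨e1, e2, e3, e4⟩ := comm_of_mem (ho ht a) (ho hw b) (ho ht (IsConj.refl _)) (hne a b) c
    obtain ⟨d, e5, e6⟩ := conj_two
      (inv_of L' hty ((Subgroup.orderOf_coe p).trans (ho ht a)) (mem_centralizer_singleton_iff.1 p.2)
        (congrArg Subtype.val e1) fun e => e3 (Subtype.ext e))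
      (inv_of L' hty ((Subgroup.orderOf_coe q).trans (ho hw b)) (mem_centralizer_singleton_iff.1 q.2)
        (congrArg Subtype.val e2) fun e => e4 (Subtype.ext e)) (xc_cube hy hty) (by
          rcases cases L' hy hty with h0 | h0 | h0 <;> first | omega | exact h0.1)
    have e7 := nn_conj' (y := y) (s := p) (c := d) (congrArg Subtype.val e5)
    rw [show (d : G) * p * (d : G)⁻¹ = q from congrArg Subtype.val e6, nn_isConj a, nn_isConj b] at e7
    exact absurd (h1.symm.trans (e7.symm.trans h2)) (by decide)⟩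
  have h5 : Nat.card {p : centralizer ({y} : Set G) × centralizer ({y} : Set G) // IsConj (xc hty.symm) p.1 ∧
      IsConj (xc hwy.symm) p.2 ∧ xc hwy.symm ∈ zpowers (p.1 * p.2)} ≤ 81 := by
    obtain ⟨L', rfl⟩ := L.exists_rebase (MT.sq_of_orderOf hw).1 (MT.sq_of_orderOf hw).2
    have e1 := card_inv (K := L'.K) (xc_cube hy hwy) (by
      rcases cases L' hy hwy with h0 | h0 | h0 <;> first | omega | exact h0.1)
    have := Fintype.ofFinite {s // Inv L'.K (xc hwy) s}
    let P : {s // Inv L'.K (xc hwy) s} → Prop := fun s => nn y (s.1 : G) = 2160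
    have e2 : ∀ p : {p : centralizer ({y} : Set G) × centralizer ({y} : Set G) // IsConj (xc hty.symm) p.1 ∧
        IsConj (xc hwy.symm) p.2 ∧ xc hwy.symm ∈ zpowers (p.1 * p.2)}, ∃ z : {s // P s} × {s // ¬ P s},
        (z.1.1.1 : G) = p.1.1 ∧ (z.2.1.1 : G) = p.1.2 := fun ⟨⟨p, q⟩, a, b, c⟩ => by
      obtain ⟨e1, e2, e3, e4⟩ := comm_of_mem (ho ht a) (ho hw b) (ho hw (IsConj.refl _)) (hne a b) c
      refine ⟨(⟨⟨_, inv_of L' hwy ((Subgroup.orderOf_coe p).trans (ho ht a)) (mem_centralizer_singleton_iff.1 p.2)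
        (congrArg Subtype.val e1) fun e => e3 (Subtype.ext e)⟩, (nn_isConj a).trans h1⟩,
        ⟨⟨_, inv_of L' hwy ((Subgroup.orderOf_coe q).trans (ho hw b)) (mem_centralizer_singleton_iff.1 q.2)
        (congrArg Subtype.val e2) fun e => e4 (Subtype.ext e)⟩, fun e => ?_⟩), rfl, rfl⟩
      exact absurd (Eq.trans (Eq.symm e) ((nn_isConj b).trans h2)) (by decide)
    choose f hf using e2
    refine (Nat.card_le_card_of_injective f fun a b hab => Subtype.ext (Prod.ext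
      (Subtype.ext (by rw [← (hf a).1, ← (hf b).1, hab])) (Subtype.ext (by rw [← (hf a).2, ← (hf b).2, hab])))).trans ?_
    rw [Nat.card_eq_fintype_card] at e1
    rw [Nat.card_prod, Nat.card_eq_fintype_card, Nat.card_eq_fintype_card, Fintype.card_subtype_compl]
    obtain ⟨k, hk⟩ := Nat.exists_eq_add_of_le (Fintype.card_subtype_le P)
    rw [hk, Nat.add_sub_cancel_left]
    rw [hk] at e1
    nlinarith [sq_nonneg ((Fintype.card {s // P s} : ℤ) - k)]
  rw [@Nat.card_of_isEmpty _ h4, show nn y (xc hty.symm : G) = 2160 from h1] at h3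
  rw [cc, h3]
  omega

end

/-- **the types `3 ^ 2` and `3 ^ 3` are fused** -/
theorem fusion : ∃ y t w : Spor.Ly, orderOf y = 3 ∧ orderOf t = 2 ∧ orderOf w = 2 ∧ t * y = y * t ∧ w * y = y * w ∧
    nn y t = 2160 ∧ nn y w = 324 := by
  have := fin
  obtain ⟨a, y, c, h1, h2, h3, h4, h5, h6⟩ := exists_fuse
  obtain ⟨s, h7, h8⟩ := h1.mcl.inv (y := xc h3.symm) ((Subgroup.orderOf_mk _ _).trans h2)
  rw [← Subgroup.orderOf_coe] at h7
  obtain ⟨L₀⟩ := TypeM.FactsLy.exists_mt_ly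
  obtain ⟨L, hL⟩ := L₀.exists_rebase (MT.sq_of_orderOf h7).1 (MT.sq_of_orderOf h7).2
  have ha : L.t * a = a * L.t := hL ▸ mem_centralizer_singleton_iff.1 s.2
  have hy : L.t * y = y * L.t := hL ▸ congrArg Subtype.val h8
  have e1 : (L.K.π (xc ha)).cycleType = {3} :=
    (big_three_iff L h1.ord).1 ((big_three h1.ord).2 (by rw [show cc _ = _ from h1.mcl.card]; decide))
  obtain ⟨i, d, e2, e3⟩ := (CpAut.Cyc.cent_of_cycle L.K (Perm.card_cycleType_eq_one.1 (by rw [e1]; rfl) :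
    (L.K.π (xc ha)).IsCycle) (xc hy)).1 (Subtype.ext h3)
  have e4 : ∀ k, IsConj y (y * a ^ k) := fun k => by
    induction k with
    | zero => rw [pow_zero, mul_one]
    | succ k ih =>
      refine ih.trans (isConj_iff.2 ⟨c, ?_⟩)
      rw [← conj_mul, h6, conj_pow.symm, h5, mul_inv_cancel_right, pow_succ', mul_assoc]
  have e5 : (d : Spor.Ly) = y * a ^ (2 * i) := by
    rw [(Commute.pow_right h3 _).eq, show y = a ^ i * d from congrArg Subtype.val e3, ← mul_assoc, ← pow_add,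
      show 2 * i + i = 3 * i by ring, pow_mul, ← h1.ord, pow_orderOf_eq_one, one_pow, one_mul]
  have e6 : IsConj (d : Spor.Ly) ((xc ha * d : centralizer ({L.t} : Set Spor.Ly)) : Spor.Ly) := by
    refine (e5 ▸ e4 _).symm.trans ?_
    rw [show ((xc ha * d : centralizer ({L.t} : Set Spor.Ly)) : Spor.Ly) = y * a ^ (2 * i + 1) by
      rw [pow_succ', ← mul_assoc, h3, mul_assoc, ← e5]; rfl]
    exact e4 _
  have e7 : orderOf (d : Spor.Ly) = 3 := by rw [e5, ← Sm1.order_conj (e4 _), h2]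
  have e8 := (Sm1.order_conj e6).symm.trans e7
  have e9 : (L.K.π (xc ha * d)).cycleType = {3} + (L.K.π d).cycleType := by
    rw [map_mul, Perm.Disjoint.cycleType_mul fun x => (em _).imp_right (e2 x), e1]
  have f1 := (mem_centralizer_singleton_iff.1 d.2).symm
  have f2 := (mem_centralizer_singleton_iff.1 (xc ha * d).2).symm
  rcases cases L e7 f1 with f3 | f3 | f3
  · have f4 := (big_three_iff L e8).1 ((big_conj e6).1 ((big_three_iff L e7).2 f3.1))
    rw [e9, show (L.K.π d).cycleType = {3} from f3.1] at f4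
    exact absurd f4 (by decide)
  · obtain ⟨g, hg⟩ := isConj_iff.1 e6.symm
    refine ⟨d, L.t, g * L.t * g⁻¹, e7, L.orderOf_t, by rw [McLThree.orderOf_conj', L.orderOf_t], f1,
      hg ▸ conj_comm g f2, f3.2, ?_⟩
    rw [← hg, nn_conj]
    rw [show (L.K.π d).cycleType = {3, 3} from f3.1] at e9
    rcases cases L e8 f2 with f4 | f4 | f4 <;> first | exact f4.2 | exact absurd (e9.symm.trans f4.1) (by decide)
  · rw [show (L.K.π d).cycleType = {3, 3, 3} from f3.1] at e9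
    rcases cases L e8 f2 with f4 | f4 | f4 <;> exact absurd (e9.symm.trans f4.1) (by decide)

/-- **the class `3B`** -/
theorem class_B {y : Spor.Ly} (hy : orderOf y = 3) (hb : ¬ Big y) : cc y ≤ 174960 ∧ cc y ∣ 349920 ∧
    ∃ f : Spor.Ly, orderOf f = 5 ∧ Big f ∧ f * y = y * f := by
  have := fin
  have := Fact.mk Nat.prime_five
  obtain ⟨L₀⟩ := TypeM.FactsLy.exists_mt_ly
  obtain ⟨x₀, h₀⟩ := exists_three
  obtain ⟨x, t, w, h1, h2, h3, h4, h5, h6, h7⟩ := fusion
  obtain ⟨s, h8, h9⟩ := fact_a card (tdata h₀) hy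
  obtain ⟨g, rfl⟩ : ∃ g, g * x * g⁻¹ = y := by
    rcases nn_cases L₀ hy h8 h9 with e | e | e
    · exact absurd ((big_three hy).2 ((show 7 ∣ _ by rw [e]; decide).trans (nn_dvd y s))) hb
    · exact (conj_of_nn L₀ hy h8 h9 h1 h2 h4 (h6.trans e.symm)).imp fun _ h => h.1
    · exact (conj_of_nn L₀ hy h8 h9 h1 h3 h5 (h7.trans e.symm)).imp fun _ h => h.1
  have e0 : IsConj x (g * x * g⁻¹) := isConj_iff.2 ⟨g, rfl⟩
  have e1 := cc_le L₀ h1 h2 h3 h4 h5 h6 h7 fun s a b e =>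
    hb ((big_conj e0).1 ((big_three h1).2 ((show 7 ∣ _ by rw [e]; decide).trans (nn_dvd x s))))
  have e2 : 3 ^ 6 ∣ cc x := Row.six_dvd h₀ L₀ h1 h2 h4 h6
  have e3 : 80 ∣ cc x := (show 80 ∣ _ by rw [h6]; decide).trans (nn_dvd x t)
  obtain ⟨k, e4⟩ := (show Nat.Coprime (3 ^ 6) 80 by decide).mul_dvd_of_dvd_of_dvd e2 e3
  have e5 := cc_pos x
  rw [← cc_conj e0]
  refine ⟨e1, ?_, ?_⟩
  · have e6 : k = 1 ∨ k = 2 ∨ k = 3 := by omega
    rcases e6 with rfl | rfl | rfl <;> rw [e4] <;> decide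
  · obtain ⟨L, rfl⟩ := L₀.exists_rebase (MT.sq_of_orderOf h2).1 (MT.sq_of_orderOf h2).2
    obtain ⟨f, hf⟩ := exists_prime_orderOf_dvd_card' (G := centralizer ({xc h4} : Set (centralizer ({L.t} : Set Spor.Ly))))
      5 (by rw [nn_eq, h6]; decide)
    rw [← Subgroup.orderOf_coe, ← Subgroup.orderOf_coe] at hf
    have e6 : (f.1 : Spor.Ly) * x = x * f.1 := congrArg Subtype.val (mem_centralizer_singleton_iff.1 f.2)
    refine ⟨g * f.1 * g⁻¹, by rw [McLThree.orderOf_conj', hf], (big_conj (isConj_iff.2 ⟨g, rfl⟩)).1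
      ((big_five_iff L hf).2 ((five_cases L hf).resolve_right fun e => ?_).1), conj_comm g e6⟩
    have e7 : orderOf x ∣ nn (f.1 : Spor.Ly) L.t := Subgroup.orderOf_dvd_natCard _
      ⟨mem_centralizer_singleton_iff.2 e6.symm, mem_centralizer_singleton_iff.2 h4.symm⟩
    rw [h1, e.2] at e7
    omega

theorem cc_A {f : Spor.Ly} (hf : orderOf f = 5) (hb : Big f) : cc f = 2250000 := by
  have := fin
  obtain ⟨L⟩ := TypeM.FactsLy.exists_mt_ly
  obtain ⟨t, K, S, h, -⟩ := not_four L hf ((big_five hf).1 hb)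
  exact h.card_cent

/-- no element of order 45 -/
theorem not_five {x : Spor.Ly} (hx : orderOf x = 9) (hb : ¬ Big (x ^ 3)) : ¬ 5 ∣ cc x := fun h => by
  have := fin
  have := Fact.mk Nat.prime_five
  obtain ⟨L₀⟩ := TypeM.FactsLy.exists_mt_ly
  obtain ⟨f, hf⟩ := exists_prime_orderOf_dvd_card' 5 h
  rw [← Subgroup.orderOf_coe] at hf
  obtain ⟨-, h1, f₀, h2, h3, h4⟩ := class_B (by rw [orderOf_pow, hx]; rfl) hb
  have h5 : Big (f : Spor.Ly) := by
    obtain ⟨g, i, hi⟩ := exists_conj_zpowers (G := centralizer ({x ^ 3} : Set Spor.Ly)) Nat.prime_five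
      (fun e => absurd (e.trans h1) (by decide)) (x := ⟨f, cent_pow_le x 3 f.2⟩) (y := xc h4.symm)
      ((Subgroup.orderOf_mk _ _).trans hf) ((Subgroup.orderOf_mk _ _).trans h2)
    have e1 : (f : Spor.Ly) ^ i = g * f₀ * (g : Spor.Ly)⁻¹ := congrArg Subtype.val hi
    rw [← zpow_mod_orderOf, ← Int.toNat_of_nonneg (Int.emod_nonneg i (by rw [hf]; decide)), zpow_natCast] at e1
    have e2 := isConj_iff.2 ⟨(g : Spor.Ly), e1.symm⟩
    exact (big_pow (ON.coprime_of_conj (hf.trans h2.symm) e2.symm)).1 ((big_conj e2).1 h3)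
  obtain ⟨t, K, S, h6, h7⟩ := not_four L₀ hf ((big_five hf).1 h5)
  obtain ⟨L, rfl⟩ := L₀.exists_rebase h6.h.tt h6.h.six.t_ne
  have h8 : x * f = f * x := (mem_centralizer_singleton_iff.1 f.2).symm
  obtain ⟨c, hc⟩ := exists_conj_le Nat.prime_three (H := centralizer ({(⟨L.t, h6.t_mem_cent⟩ :
    centralizer ({(f : Spor.Ly)} : Set Spor.Ly))} : Set _)) (A := zpowers (xc h8.symm))
    (IsPGroup.of_card (n := 2) (by rw [Nat.card_zpowers]; exact (Subgroup.orderOf_mk _ _).trans hx))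
    (not_dvd_index (k := 2) (a := 250000) (b := 400) h6.card_cent ((nn_eq' _).trans h7) Nat.prime_three (by decide))
  have h9 : (c : Spor.Ly) * x * (c : Spor.Ly)⁻¹ * L.t = L.t * (c * x * (c : Spor.Ly)⁻¹) :=
    congrArg Subtype.val (mem_centralizer_singleton_iff.1 (hc _ (mem_zpowers _)))
  refine no45' L.K (w := xc h9.symm * xc (mem_centralizer_singleton_iff.1 h6.t_mem_cent)) ?_
  have e1 : Commute ((c : Spor.Ly) * x * (c : Spor.Ly)⁻¹) f :=
    mem_centralizer_singleton_iff.1 (c * xc h8.symm * c⁻¹).2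
  rw [← Subgroup.orderOf_coe]
  refine (e1.orderOf_mul_eq_mul_orderOf_of_coprime ?_).trans ?_ <;> rw [McLThree.orderOf_conj', hx, hf]
  decide

theorem ex_odd (L : MT 11 Spor.Ly) (i : ℕ) (σ ρ : Perm (Fin 11))
    (h : (decide (Perm.sign σ = 1 ∧ dat.ord i % 2 = 1 ∧ hasOrd σ (dat.ord i) ∧ ρ * σ = σ * ρ ∧ Perm.sign ρ = -1 ∧
      ¬ 2 ^ 2 ∣ cS σ.cycleType) && okL i σ) = true) :
    ∃ y : Spor.Ly, @TyL _ _ fin i y ∧ ¬ 2 ^ 2 ∣ cc y := by
  have := fin
  rw [Bool.and_eq_true, decide_eq_true_iff] at h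
  obtain ⟨⟨h1, h2, h3, h4, h5, h6⟩, h7⟩ := h
  obtain ⟨y, rfl, h8, -⟩ := odd_orders L.K (Perm.mem_alternatingGroup.2 h1) (Nat.odd_iff.2 h2)
    (orderOf_of_hasOrd (by omega) h3)
  refine ⟨y, ty_lift L ((Subgroup.orderOf_coe y).trans h8) (by omega) h7,
    H438.Fpr.Gen.not_sq_of_one Nat.prime_two (x := xc (mem_centralizer_singleton_iff.1 y.2))
      ((Subgroup.orderOf_mk _ _).trans L.orderOf_t) ?_⟩
  rw [nn_eq']
  change ¬ 2 ^ 2 ∣ nn (y : Spor.Ly) L.t
  rwa [← nn_coe, card_eq L.K (Nat.odd_iff.2 h2) (by rw [← h8, pow_orderOf_eq_one]) ⟨ρ, h4, h5⟩, card_cS]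

theorem box3 : BoxL 3 := by
  have := fin
  obtain ⟨L⟩ := TypeM.FactsLy.exists_mt_ly
  obtain ⟨y, -, h, -⟩ := rp_odd L 8 3 (cyc 0 3 * cyc 3 3) (by decide +kernel)
  have h1 : TyL 3 ((y : Spor.Ly) ^ 2) := (Ty.pow okPow (by decide) h 2).2
  exact box_one h1 (class_B h1.1 fun e => absurd ((h.2 (2, 3) (by decide)).2 e) (by decide)).1 (by decide)

theorem box13 : BoxL 13 := by
  have := fin
  obtain ⟨L⟩ := TypeM.FactsLy.exists_mt_ly
  obtain ⟨x, h1, h2⟩ := ex_odd L 13 (cyc 0 9) (swap 9 10) (by decide +kernel)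
  have hx : orderOf x = 9 := h1.1
  have hb : ¬ Big (x ^ 3) := fun e => absurd ((h1.2 (3, 3) (by decide)).2 e) (by decide)
  have h3 : cc x ∣ 2 ^ 5 * (3 ^ 7 * 5 ^ 1) := (cc_dvd_pow x 3).trans (class_B (by rw [orderOf_pow, hx]; rfl) hb).2.1
  have h0 := (cc_pos x).ne'
  have h4 := H438.Fpr.Ly.dvd_of_not_pow (k := 1) Nat.prime_two h0 h3 h2
  rw [mul_left_comm] at h4
  have h5 := H438.Fpr.Ly.dvd_of_not_pow (k := 3) Nat.prime_three h0 h4 (cent_nine hx)
  rw [← mul_assoc, mul_comm] at h5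
  have h6 := H438.Fpr.Ly.dvd_of_not_pow (k := 0) Nat.prime_five h0 h5 (not_five hx hb)
  exact box_one h1 (Nat.le_of_dvd (by decide) h6) (by decide)

theorem box21 : BoxL 21 := by
  have := fin
  obtain ⟨L⟩ := TypeM.FactsLy.exists_mt_ly
  obtain ⟨x, h1, h2⟩ := ex_odd L 21 (cyc 0 5 * cyc 5 3 * cyc 8 3) (swap 5 8 * swap 6 9 * swap 7 10) (by decide +kernel)
  have hx : orderOf x = 15 := h1.1
  have h3 := (cc_dvd_pow x 5).trans (class_B (by rw [orderOf_pow, hx]; rfl)
    fun e => absurd ((h1.2 (5, 3) (by decide)).2 e) (by decide)).2.1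
  have h4 := cc_dvd_pow x 3
  rw [cc_A (by rw [orderOf_pow, hx]; rfl) ((h1.2 (3, 5) (by decide)).1 rfl)] at h4
  have h5 : cc x ∣ 2 ^ 4 * 45 := Nat.dvd_gcd h3 h4
  exact box_one h1 (Nat.le_of_dvd (by decide) (H438.Fpr.Ly.dvd_of_not_pow (k := 1) Nat.prime_two (cc_pos x).ne' h5 h2))
    (by decide)

end Cfsg.Agent.TAB.Ly
end

-- part: TAB/Ly/Main
section
set_option linter.all false

/-!
# The table of the Lyons group (helper57, TAB)
-/

set_option autoImplicit false

namespace Cfsg.Agent.TAB.Ly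

open Cfsg Cfsg.Agent.TAB.Eng Cfsg.Agent.TAB.Use

theorem boxes : ∀ i < 39, BoxL i := by
  intro i hi
  interval_cases i
  exacts [box0, box1, box2, box3, box4, box5, box6, box7, box8, box9, box10, box11, box12, box13, box14, box15, box16,
    box17, box18, box19, box20, box21, box22, box23, box24, box25, box26, box27, box28, box29, box30, box31, box32,
    box33, box34, box35, box36, box37, box38]

/-- **the types, the masses and the table** -/
theorem tab' : ∃ T : TD Spor.Ly dat, T.Mass ∧ ON.Rat T ∧ (∀ g, ∀ i < 39, T.ty g = i ↔ @TyL _ _ fin i g) ∧ Tab T tb :=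
  @out_of _ _ fin card boxes

theorem tab : ∃ T : TD Spor.Ly dat, T.Mass ∧ ON.Rat T ∧ Tab T tb :=
  tab'.imp fun _ h => ⟨h.1, h.2.1, h.2.2.2⟩

theorem van : VAN.Van3 Spor.Ly := by
  have := fin
  obtain ⟨T, h1, -, h2⟩ := tab
  exact van_of h1 h2

theorem odd : OddRat Spor.Ly := by
  have := fin
  obtain ⟨T, h1, -, h2⟩ := tab
  exact odd_of h1 h2

theorem sig : OddSig Spor.Ly := by
  have := fin
  obtain ⟨T, h1, -, h2⟩ := tab
  exact sig_of h1 h2

theorem deg : DegList Spor.Ly degs := by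
  have := fin
  obtain ⟨T, -, -, h2⟩ := tab
  exact h2.degList

end Cfsg.Agent.TAB.Ly
end
end
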